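import Groth.Agent.DiagRig.TrivialLocus
import Groth.Agent.DiagRig.Split
import Groth.Agent.DiagRig.MultProp
import Groth.Agent.RedCentre.NilCentral

/-!
# Families of homomorphisms out of groups of multiplicative type
-/

set_option autoImplicit false

universe u

open CategoryTheory CategoryTheory.Limits MonoidalCategory CartesianMonoidalCategory MonObj GrpObj AlgebraicGeometry

noncomputable section

namespace Groth.Agent.RedCentre.Bilinear

open DiagRig NilCentral

set_option backward.isDefEq.respectTransparency.types false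

variable {S : Scheme.{u}} {A H W : Over S} [GrpObj H] [GrpObj W] [IsSeparated W.hom]
  [LocallyOfFinitePresentation W.hom] (φ : A ⊗ H ⟶ W)

/-- The locus where a family of homomorphisms out of a group of multiplicative type is trivial is clopen. -/
theorem exists_locus (hH : SGA3x.IsMultTypeFT H)
    (hmul : ∀ (Y : Over S) (a : Y ⟶ A) (h h' : Y ⟶ H),
      lift a (h * h') ≫ φ = (lift a h ≫ φ) * (lift a h' ≫ φ)) :
    ∃ U : A.left.Opens, IsClosed (U : Set A.left) ∧
      (∀ b : A.left, (∀ (Y : Over S) (z : Y.left ⟶ Spec (A.left.residueField b)) (a : Y ⟶ A) (h : Y ⟶ H),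
          z ≫ A.left.fromSpecResidueField b = a.left → lift a h ≫ φ = 1) → b ∈ U) ∧
      ∀ (Y : Over S) (a : Y ⟶ A) (h : Y ⟶ H), Set.range a.left.base ⊆ U → lift a h ≫ φ = 1 := by
  let q : A.left ⟶ S := A.hom
  let pt : ∀ Z : Over A.left, (Over.map q).obj Z ⟶ A := fun Z => CategoryTheory.Over.homMk Z.hom rfl
  have hpt : ∀ {Z Z' : Over A.left} (z : Z' ⟶ Z), (Over.map q).map z ≫ pt Z = pt Z' := fun z =>
    Over.OverMorphism.ext (CategoryTheory.Over.w z)
  let u : Red.bc q H ⟶ Red.bc q W := bcUn q (lift (pt (Red.bc q H)) (bcTr q (𝟙 (Red.bc q H))) ≫ φ)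
  have hu : ∀ {Z : Over A.left} (z : Z ⟶ Red.bc q H), bcTr q (z ≫ u) = lift (pt Z) (bcTr q z) ≫ φ := fun {Z} z => by
    rw [bcTr_comp, bcTr_bcUn, comp_lift_assoc, hpt, ← bcTr_comp, Category.comp_id]
  have : IsMonHom u := isMonHom_of_pts u fun Z z z' => by
    rw [← bcUn_bcTr q ((z * z') ≫ u), ← bcUn_bcTr q (z ≫ u * (z' ≫ u))]
    rw [hu, bcTr_mul, bcTr_mul, hu, hu, hmul]
  haveI : LocallyOfFinitePresentation (Red.bc q W).hom :=
    MorphismProperty.pullback_snd (P := @LocallyOfFinitePresentation) W.hom q inferInstance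
  haveI : IsSeparated (Red.bc q W).hom :=
    MorphismProperty.pullback_snd (P := @IsSeparated) W.hom q inferInstance
  obtain ⟨U, hUc, hUmem, hUtriv⟩ := trivial_locus u (isMultTypeFT_bc q hH) (Or.inr inferInstance)
  refine ⟨U, hUc, fun b hb => (hUmem b).2 fun Z g z hz => ?_, fun Y a h ha => ?_⟩
  · rw [← bcUn_bcTr q (g ≫ u), hu, hb ((Over.map q).obj Z) z (pt Z) _ hz, bcUn_one]
  · let Z : Over A.left := Over.mk a.left
    let e : (Over.map q).obj Z ≅ Y := Over.isoMk (Iso.refl _) (by
      show 𝟙 _ ≫ Y.hom = a.left ≫ q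
      rw [Category.id_comp, CategoryTheory.Over.w a])
    have he : pt Z = e.hom ≫ a := Over.OverMorphism.ext (Category.id_comp _).symm
    have h1 := hu (bcUn q (e.hom ≫ h))
    rw [hUtriv Z _ ha, bcTr_bcUn, he, ← comp_lift, Category.assoc, ← bcUn_one q Z, bcTr_bcUn] at h1
    apply (cancel_epi e.hom).1
    rw [MonObj.comp_one]
    exact h1.symm

/-- A family of homomorphisms out of a group of multiplicative type which is trivial on every fibre of the base is
trivial. -/
theorem eq_one_of_fibres (hH : SGA3x.IsMultTypeFT H)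
    (hmul : ∀ (Y : Over S) (a : Y ⟶ A) (h h' : Y ⟶ H),
      lift a (h * h') ≫ φ = (lift a h ≫ φ) * (lift a h' ≫ φ))
    (hfib : ∀ (s : S) (Y : Over S) (z : Y.left ⟶ Spec (S.residueField s)), z ≫ S.fromSpecResidueField s = Y.hom →
      ∀ (a : Y ⟶ A) (h : Y ⟶ H), lift a h ≫ φ = 1)
    (Y : Over S) (a : Y ⟶ A) (h : Y ⟶ H) : lift a h ≫ φ = 1 := by
  obtain ⟨U, -, hmem, htriv⟩ := exists_locus φ hH hmul
  refine htriv Y a h fun b _ => hmem b fun Y' z a' h' hz =>
    hfib (A.hom b) Y' (z ≫ Spec.map (A.hom.residueFieldMap b)) ?_ a' h'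
  rw [Category.assoc, Scheme.Hom.SpecMap_residueFieldMap_fromSpecResidueField, ← Category.assoc, hz,
    CategoryTheory.Over.w a']

/-- A family of homomorphisms out of a group of multiplicative type, parametrised by a scheme with connected fibres,
which is trivial along a section is trivial. -/
theorem eq_one_of_section [IsSeparated A.hom] [GeometricallyConnected A.hom] (hH : SGA3x.IsMultTypeFT H)
    (hmul : ∀ (Y : Over S) (a : Y ⟶ A) (h h' : Y ⟶ H),
      lift a (h * h') ≫ φ = (lift a h ≫ φ) * (lift a h' ≫ φ))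
    (σ : 𝟙_ (Over S) ⟶ A) (hσ : ∀ (Y : Over S) (h : Y ⟶ H), lift (toUnit Y ≫ σ) h ≫ φ = 1)
    (Y : Over S) (a : Y ⟶ A) (h : Y ⟶ H) : lift a h ≫ φ = 1 := by
  obtain ⟨U, hUc, hmem, htriv⟩ := exists_locus φ hH hmul
  let σ' : S ⟶ A.left := σ.left
  have hσ' : σ' ≫ A.hom = 𝟙 S := CategoryTheory.Over.w σ
  haveI : IsClosedImmersion σ' := by
    haveI : IsClosedImmersion (σ' ≫ A.hom) := by rw [hσ']; infer_instance
    exact IsClosedImmersion.of_comp σ' A.hom
  have hsec : ∀ t : S, σ' t ∈ U := fun t => hmem _ fun Y' z a' h' hz => by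
    haveI : IsIso (σ'.residueFieldMap t) := by
      refine (ConcreteCategory.isIso_iff_bijective _).2 ⟨RingHom.injective _, fun r => ?_⟩
      obtain ⟨a, ha⟩ := Scheme.residue_surjective S t r
      obtain ⟨b, hb⟩ := σ'.stalkMap_surjective t a
      refine ⟨A.left.residue _ b, ?_⟩
      have h := ConcreteCategory.congr_hom (Scheme.residue_residueFieldMap σ' t) b
      exact h.trans ((congrArg (fun y => (S.residue t) y) hb).trans ha)
    let w : Y'.left ⟶ S := z ≫ Spec.map (CategoryTheory.inv (σ'.residueFieldMap t)) ≫ S.fromSpecResidueField t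
    have hw : w ≫ σ' = a'.left := by
      simp only [w, Category.assoc, ← Scheme.Hom.SpecMap_residueFieldMap_fromSpecResidueField]
      rw [← Spec.map_comp_assoc, IsIso.hom_inv_id, Spec.map_id, Category.id_comp]
      exact hz
    have hw' : w = Y'.hom := by
      rw [← Category.comp_id w, ← hσ', ← Category.assoc, hw, CategoryTheory.Over.w a']
    have : a' = toUnit Y' ≫ σ := Over.OverMorphism.ext (by rw [← hw, hw']; rfl)
    rw [this]
    exact hσ Y' h'
  refine htriv Y a h fun b _ => ?_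
  have hc := A.hom.isConnected_preimage_singleton (A.hom b)
  refine hc.isPreconnected.subset_isClopen ⟨hUc, U.2⟩ ⟨σ' (A.hom b), ?_, hsec _⟩ rfl
  exact congrArg (fun f : S ⟶ S => f (A.hom b)) hσ'

end Groth.Agent.RedCentre.Bilinear
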