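import Groth.Agent.DiagRig.SubDescent
import Groth.Agent.DiagRig.MultProp
import Groth.Agent.S7482
import Groth.Agent.Wt.IndQA
import Groth.Prelude.Def_SGA3x

/-!
# Descent of reductive centres
-/

set_option autoImplicit false

universe u

open CategoryTheory CategoryTheory.Limits MonoidalCategory CartesianMonoidalCategory MonObj GrpObj AlgebraicGeometry

noncomputable section

namespace Groth.Agent.RedCentre.CentreDesc

open DiagRig

set_option backward.isDefEq.respectTransparency.types false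
set_option maxHeartbeats 800000

variable {S S' : Scheme.{u}} {π : S' ⟶ S} {G : Over S} [GrpObj G] {Z' : Over S'} [GrpObj Z']
  (z' : Z' ⟶ Red.bc π G)

lemma bcUn_comp {Y : Over S'} {A B : Over S} (x : (Over.map π).obj Y ⟶ A) (g : A ⟶ B) :
    bcUn π (x ≫ g) = bcUn π x ≫ (Over.pullback π).map g :=
  (Over.mapPullbackAdj π).homEquiv_naturality_right x g

/-- The universal property of a reductive centre. -/
def Univ : Prop :=
  ∀ (T : Scheme.{u}) (f' : T ⟶ S') (H : Over T) [GrpObj H] (v : H ⟶ Red.bc f' (Red.bc π G)) [IsMonHom v],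
    SGA3x.IsMultTypeFT H →
    (∀ (X : Over T) (x : X ⟶ H) (g : X ⟶ Red.bc f' (Red.bc π G)), (x ≫ v) * g = g * (x ≫ v)) →
    ∃ w : H ⟶ Red.bc f' Z', w ≫ (Over.pullback f').map z' = v

/-- Points of a central group of multiplicative type are points of the reductive centre. -/
theorem exists_factor (hu : Univ z') {R : Scheme.{u}} (f : R ⟶ S) {H : Over R} [GrpObj H]
    (v : H ⟶ Red.bc f G) [IsMonHom v] (hH : SGA3x.IsMultTypeFT H)
    (hv : ∀ (X : Over R) (x : X ⟶ H) (g : X ⟶ Red.bc f G), (x ≫ v) * g = g * (x ≫ v))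
    (Y : Over S') (b : Y.left ⟶ H.left) (hb : b ≫ H.hom ≫ f = Y.hom ≫ π) :
    ∃ h : Y ⟶ Z', (h ≫ z').left ≫ pullback.fst G.hom π = b ≫ v.left ≫ pullback.fst G.hom f := by
  let x₀ : Y.left ⟶ R := b ≫ H.hom
  let x₁ : Y.left ⟶ S' := Y.hom
  have hc : x₁ ≫ π = x₀ ≫ f := by rw [Category.assoc, hb]
  let C : ∀ W : Over Y.left, (Over.map π).obj ((Over.map x₁).obj W) ≅ (Over.map f).obj ((Over.map x₀).obj W) :=
    fun W => Over.isoMk (Iso.refl _) (by
      show 𝟙 _ ≫ (W.hom ≫ x₀) ≫ f = (W.hom ≫ x₁) ≫ π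
      rw [Category.id_comp, Category.assoc W.hom x₁ π, hc, Category.assoc])
  have hCnat : ∀ {W W' : Over Y.left} (g : W' ⟶ W),
      (Over.map π).map ((Over.map x₁).map g) ≫ (C W).hom = (C W').hom ≫ (Over.map f).map ((Over.map x₀).map g) :=
    fun g => by apply Over.OverMorphism.ext; simp [C]
  let H' : Over Y.left := Red.bc x₀ H
  let v' : H' ⟶ Red.bc x₁ (Red.bc π G) :=
    bcUn x₁ (bcUn π ((C H').hom ≫ bcTr f (bcTr x₀ (𝟙 H') ≫ v)))
  have hv' : ∀ {W : Over Y.left} (y : W ⟶ H'),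
      bcTr π (bcTr x₁ (y ≫ v')) = (C W).hom ≫ bcTr f (bcTr x₀ y ≫ v) := fun {W} y => by
    rw [bcTr_comp, bcTr_bcUn, bcTr_comp, bcTr_bcUn, ← Category.assoc, hCnat, Category.assoc, ← bcTr_comp,
      ← Category.assoc ((Over.map x₀).map y), ← bcTr_comp, Category.comp_id]
  have hinj : ∀ {W : Over Y.left} (p q : W ⟶ Red.bc x₁ (Red.bc π G)),
      bcTr π (bcTr x₁ p) = bcTr π (bcTr x₁ q) → p = q := fun p q h => bcTr_injective x₁ (bcTr_injective π h)
  have : IsMonHom v' := isMonHom_of_pts v' fun W p q => hinj _ _ (by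
    rw [bcTr_mul, bcTr_mul, hv', hv', hv', bcTr_mul, MonObj.mul_comp, bcTr_mul, MonObj.comp_mul])
  obtain ⟨w, hw⟩ := hu Y.left x₁ H' v' (isMultTypeFT_bc x₀ hH) fun W p g => hinj _ _ (by
    rw [bcTr_mul, bcTr_mul, bcTr_mul, bcTr_mul, hv']
    have h := congrArg (fun k => (C W).hom ≫ bcTr f k)
      (hv _ (bcTr x₀ p) (bcUn f ((C W).inv ≫ bcTr π (bcTr x₁ g))))
    simpa [bcTr_mul, MonObj.comp_mul, bcTr_bcUn] using h)
  let W₀ : Over Y.left := Over.mk (𝟙 Y.left)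
  let y₀ : W₀ ⟶ H' := bcUn x₀ (CategoryTheory.Over.homMk b (by simp [W₀, x₀]))
  let h₀ : Y ⟶ (Over.map x₁).obj W₀ := CategoryTheory.Over.homMk (𝟙 _) (by simp [W₀, x₁])
  refine ⟨h₀ ≫ bcTr x₁ (y₀ ≫ w), ?_⟩
  have e : bcTr π (bcTr x₁ (y₀ ≫ w) ≫ z') = (C W₀).hom ≫ bcTr f (bcTr x₀ y₀ ≫ v) := by
    rw [← hv', ← hw, ← bcTr_map x₁ (y₀ ≫ w) z', Category.assoc]
  rw [bcTr_bcUn] at e
  have e' := congrArg CommaMorphism.left e
  simp only [C, h₀, Over.comp_left, bcTr_left, Category.assoc] at e' ⊢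
  simpa using e'

variable [IsMonHom z'] [Mono z'] (hu : Univ z') (hZ : SGA3x.IsMultTypeFT Z')
  (hc : ∀ (X : Over S') (x : X ⟶ Z') (g : X ⟶ Red.bc π G), (x ≫ z') * g = g * (x ≫ z'))

omit [GrpObj G] [GrpObj Z'] [IsMonHom z'] in
/-- Two points of the subgroup agree if their images agree. -/
theorem pt_ext {T : Scheme.{u}} {a b : T ⟶ Z'.left} (h₁ : a ≫ Z'.hom = b ≫ Z'.hom)
    (h₂ : a ≫ z'.left ≫ pullback.fst G.hom π = b ≫ z'.left ≫ pullback.fst G.hom π) : a = b := by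
  let a' : Over.mk (a ≫ Z'.hom) ⟶ Z' := CategoryTheory.Over.homMk a rfl
  let b' : Over.mk (a ≫ Z'.hom) ⟶ Z' := CategoryTheory.Over.homMk b h₁.symm
  suffices a' = b' from congrArg CommaMorphism.left this
  refine (cancel_mono z').1 (Over.OverMorphism.ext (pullback.hom_ext ?_ ?_))
  · simpa [a', b'] using h₂
  · exact (Over.w (a' ≫ z')).trans (Over.w (b' ≫ z')).symm

include hu hZ hc in
theorem existsUnique_lift {T : Scheme.{u}} (x₀ x₁ : T ⟶ S') (h : x₀ ≫ π = x₁ ≫ π) (v : Desc.Lifts Z' x₀) :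
    ∃! w : Desc.Lifts Z' x₁, w.1 ≫ z'.left ≫ pullback.fst G.hom π = v.1 ≫ z'.left ≫ pullback.fst G.hom π := by
  obtain ⟨a, ha⟩ := exists_factor z' hu π z' hZ hc (Over.mk x₁) v.1 (by
    rw [← Category.assoc, v.2, h]; rfl)
  refine ⟨⟨a.left, Over.w a⟩, by simpa using ha, fun w hw => Subtype.ext (pt_ext z' ?_ ?_)⟩
  · exact w.2.trans (Over.w a).symm
  · rw [hw]; simpa using ha.symm

/-- The point over `x₁` with the same image. -/
def liftPt {T : Scheme.{u}} (x₀ x₁ : T ⟶ S') (h : x₀ ≫ π = x₁ ≫ π) (v : Desc.Lifts Z' x₀) : Desc.Lifts Z' x₁ :=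
  (existsUnique_lift z' hu hZ hc x₀ x₁ h v).exists.choose

theorem liftPt_spec {T : Scheme.{u}} (x₀ x₁ : T ⟶ S') (h : x₀ ≫ π = x₁ ≫ π) (v : Desc.Lifts Z' x₀) :
    (liftPt z' hu hZ hc x₀ x₁ h v).1 ≫ z'.left ≫ pullback.fst G.hom π = v.1 ≫ z'.left ≫ pullback.fst G.hom π :=
  (existsUnique_lift z' hu hZ hc x₀ x₁ h v).exists.choose_spec

theorem liftPt_eq {T : Scheme.{u}} (x₀ x₁ : T ⟶ S') (h : x₀ ≫ π = x₁ ≫ π) (v : Desc.Lifts Z' x₀)
    (w : Desc.Lifts Z' x₁)
    (hw : w.1 ≫ z'.left ≫ pullback.fst G.hom π = v.1 ≫ z'.left ≫ pullback.fst G.hom π) :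
    liftPt z' hu hZ hc x₀ x₁ h v = w :=
  (existsUnique_lift z' hu hZ hc x₀ x₁ h v).unique (liftPt_spec z' hu hZ hc x₀ x₁ h v) hw

/-- The descent datum carried by a reductive centre. -/
def datum : Desc.SchDDFam (fun _ : PUnit.{u + 1} => π) where
  obj _ := Z'
  φ T i j x₀ x₁ h :=
    { toFun := fun v => liftPt z' hu hZ hc x₀ x₁ h v
      invFun := fun v => liftPt z' hu hZ hc x₁ x₀ h.symm v
      left_inv := fun v => liftPt_eq z' hu hZ hc x₁ x₀ h.symm _ v (liftPt_spec z' hu hZ hc x₀ x₁ h v).symm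
      right_inv := fun v => liftPt_eq z' hu hZ hc x₀ x₁ h _ v (liftPt_spec z' hu hZ hc x₁ x₀ h.symm v).symm }
  φ_natural T T' g i j x₀ x₁ h y₀ y₁ hy₀ hy₁ h' v v' hv' := by
    show (liftPt z' hu hZ hc y₀ y₁ h' v').1 = g ≫ (liftPt z' hu hZ hc x₀ x₁ h v).1
    rw [liftPt_eq z' hu hZ hc y₀ y₁ h' v' ⟨g ≫ (liftPt z' hu hZ hc x₀ x₁ h v).1, by
      rw [Category.assoc, (liftPt z' hu hZ hc x₀ x₁ h v).2, hy₁]⟩ (by
      rw [hv', Category.assoc, Category.assoc, liftPt_spec])]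
  φ_self T i x v := liftPt_eq z' hu hZ hc x x rfl v v rfl
  φ_comp T i j k x₀ x₁ x₂ h₀₁ h₁₂ v := liftPt_eq z' hu hZ hc x₁ x₂ h₁₂ _ _
    ((liftPt_spec z' hu hZ hc x₀ x₂ (h₀₁.trans h₁₂) v).trans (liftPt_spec z' hu hZ hc x₀ x₁ h₀₁ v).symm)

variable [Flat π] [Surjective π]
  (hcov : ∀ V : S.Opens, IsAffineOpen V → ∃ W : S'.Opens, IsCompact (W : Set S') ∧ π.base '' (W : Set S') = (V : Set S))

include hu hZ hc hcov in
/-- A monomorphism over the base whose base change is the given centre. -/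
theorem exists_model : ∃ (U : Over S) (z : U ⟶ G), Mono z ∧
    ∀ (Y : Over S') (x : (Over.map π).obj Y ⟶ G), (∃ y, y ≫ z = x) ↔ ∃ h : Y ⟶ Z', h ≫ z' = bcUn π x := by
  have : IsAffineHom Z'.hom := multType_isAffineHom Z' hZ
  have hiq : MoreMor.IsIndQuasiAffineHom Z'.hom := fun V hV => by
    intro W hW
    haveI : IsAffine (Z'.hom ⁻¹ᵁ V : Z'.left.Opens) := (hV.preimage Z'.hom :)
    haveI : CompactSpace (W : Scheme.{u}) := (Wt.IndQA.isCompact_iff W).1 hW
    exact Scheme.IsQuasiAffine.of_isImmersion W.ι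
  obtain ⟨U, ⟨e⟩⟩ := S7482.result (fun _ : PUnit.{u + 1} => π) (singleton_mem_fpqc π hcov) (datum z' hu hZ hc)
    fun _ => hiq
  let α : Over.mk (pullback.fst π U.hom) ⟶ Z' := e.hom.hom PUnit.unit
  let β : Z' ⟶ Over.mk (pullback.fst π U.hom) := e.inv.hom PUnit.unit
  have hβα : β ≫ α = 𝟙 _ := congrArg (fun a => a.hom PUnit.unit) e.inv_hom_id
  have hαβ : α ≫ β = 𝟙 _ := congrArg (fun a => a.hom PUnit.unit) e.hom_inv_id
  let cc : pullback π U.hom ⟶ G.left := α.left ≫ z'.left ≫ pullback.fst G.hom π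
  have hkey : ∀ {T : Scheme.{u}} (a b : T ⟶ pullback π U.hom), a ≫ pullback.snd π U.hom = b ≫ pullback.snd π U.hom →
      a ≫ cc = b ≫ cc := fun {T} a b hab => by
    have h : (a ≫ pullback.fst π U.hom) ≫ π = (b ≫ pullback.fst π U.hom) ≫ π := by
      rw [Category.assoc, Category.assoc, pullback.condition, reassoc_of% hab]
    let v : Desc.Lifts (Over.mk (pullback.fst π U.hom)) (a ≫ pullback.fst π U.hom) := ⟨a, rfl⟩
    let w : Desc.Lifts Z' (a ≫ pullback.fst π U.hom) := ⟨a ≫ α.left, by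
      rw [Category.assoc, Over.w α]; rfl⟩
    have hcm := e.hom.comm (i := PUnit.unit) (j := PUnit.unit) _ _ h v w rfl
    have hb : (Desc.canMapFam (fun _ : PUnit.{u + 1} => π) U (i := PUnit.unit) (j := PUnit.unit)
        (a ≫ pullback.fst π U.hom) (b ≫ pullback.fst π U.hom) h v).1 = b := by
      rw [Desc.canMapFam_val]
      exact pullback.hom_ext (by rw [pullback.lift_fst]) (by rw [pullback.lift_snd]; exact hab)
    have hsp := liftPt_spec z' hu hZ hc _ _ h w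
    have hcm' : (liftPt z' hu hZ hc _ _ h w).1 = b ≫ α.left :=
      hcm.trans (congrArg (· ≫ α.left) hb)
    rw [hcm'] at hsp
    simpa [cc, w] using hsp.symm
  let P : Over S := (Over.map π).obj (Over.mk (pullback.fst π U.hom))
  let k : P ⟶ U := CategoryTheory.Over.homMk (pullback.snd π U.hom) pullback.condition.symm
  have : EffectiveEpi k.left := effectiveEpi_of_cov (pullback.snd π U.hom) (cov_pullback π U.hom hcov)
  have hccw : cc ≫ G.hom = pullback.fst π U.hom ≫ π := by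
    show (α.left ≫ z'.left ≫ pullback.fst G.hom π) ≫ G.hom = _
    rw [Category.assoc, Category.assoc, pullback.condition, ← Category.assoc z'.left, ← Category.assoc]
    congr 1
    exact (congrArg (α.left ≫ ·) (Over.w z')).trans (Over.w α)
  obtain ⟨z, hz, -⟩ := GrpdLib.GrpOver.existsUnique_desc k (CategoryTheory.Over.homMk cc hccw : P ⟶ G)
    fun X a b hab => Over.OverMorphism.ext (by
      simpa using hkey a.left b.left (congrArg CommaMorphism.left hab))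
  have hzl : pullback.snd π U.hom ≫ z.left = cc := congrArg CommaMorphism.left hz
  -- a point over the cover
  let L : ∀ (Y : Over S') (y : (Over.map π).obj Y ⟶ U), Y ⟶ Z' := fun Y y =>
    CategoryTheory.Over.homMk (pullback.lift Y.hom y.left (Over.w y).symm ≫ α.left) (by
      rw [Category.assoc, Over.w α]; exact pullback.lift_fst _ _ _)
  have hL : ∀ (Y : Over S') (y : (Over.map π).obj Y ⟶ U), L Y y ≫ z' = bcUn π (y ≫ z) := fun Y y => by
    refine bcTr_injective π (Over.OverMorphism.ext ?_)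
    rw [bcTr_left, bcTr_bcUn, Over.comp_left, Over.comp_left]
    simp only [L, Over.homMk_left, Category.assoc]
    show pullback.lift Y.hom y.left _ ≫ cc = _
    rw [← hzl, pullback.lift_snd_assoc]
  refine ⟨U, z, ⟨fun {X} a b hab => ?_⟩, fun Y x => ⟨fun ⟨y, hy⟩ => ⟨L Y y, by rw [hL, hy]⟩, fun ⟨h, hh⟩ => ?_⟩⟩
  · let kX : (Over.map π).obj (Over.mk (pullback.snd X.hom π)) ⟶ X :=
      CategoryTheory.Over.homMk (pullback.fst X.hom π) pullback.condition
    have : EffectiveEpi kX.left := effectiveEpi_of_cov (pullback.fst X.hom π) (cov_fst X.hom π hcov)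
    refine GrpdLib.GrpOver.cancel_left kX ?_
    have h1 : L _ (kX ≫ a) = L _ (kX ≫ b) := by
      rw [← cancel_mono z', hL, hL, Category.assoc, hab, Category.assoc]
    have h2 := congrArg (fun m => (m ≫ β).left ≫ pullback.snd π U.hom) h1
    simp only [L, Over.comp_left, Over.homMk_left, Category.assoc] at h2
    have h3 : α.left ≫ β.left = 𝟙 _ := congrArg CommaMorphism.left hαβ
    erw [reassoc_of% h3, pullback.lift_snd, pullback.lift_snd] at h2
    exact Over.OverMorphism.ext (by simpa using h2)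
  · refine ⟨CategoryTheory.Over.homMk ((h ≫ β).left ≫ pullback.snd π U.hom) ?_, ?_⟩
    · show (((h ≫ β).left ≫ pullback.snd π U.hom) ≫ U.hom) = Y.hom ≫ π
      rw [Category.assoc, ← pullback.condition, ← Category.assoc]
      exact congrArg (· ≫ π) (Over.w (h ≫ β))
    · rw [← bcTr_bcUn π (_ ≫ z), ← bcTr_bcUn π x]
      congr 1
      rw [← hh, ← hL, cancel_mono]
      apply Over.OverMorphism.ext
      simp only [L, Over.homMk_left]
      have : pullback.lift Y.hom ((h ≫ β).left ≫ pullback.snd π U.hom) (by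
          rw [Category.assoc, ← pullback.condition, ← Category.assoc]
          exact (congrArg (· ≫ π) (Over.w (h ≫ β))).symm) = (h ≫ β).left :=
        pullback.hom_ext (by rw [pullback.lift_fst]; exact (Over.w (h ≫ β)).symm) (by rw [pullback.lift_snd])
      refine (congrArg (· ≫ α.left) this).trans ?_
      show ((h ≫ β) ≫ α).left = h.left
      rw [Category.assoc, hβα, Category.comp_id]

end Groth.Agent.RedCentre.CentreDesc

namespace Groth.Agent.RedCentre.CentreDesc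

open DiagRig

set_option backward.isDefEq.respectTransparency.types false
set_option maxHeartbeats 800000

variable {S S' : Scheme.{u}} (π : S' ⟶ S) [Flat π] [Surjective π]
  (hcov : ∀ V : S.Opens, IsAffineOpen V → ∃ W : S'.Opens, IsCompact (W : Set S') ∧ π.base '' (W : Set S') = (V : Set S))
  {G : Over S} [GrpObj G] {Z' : Over S'} [GrpObj Z'] (z' : Z' ⟶ Red.bc π G) [IsMonHom z'] [Mono z']

include hcov in
/-- A reductive centre descends along fpqc covers. -/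
theorem exists_redCentre_of_cover (hu : Univ z') (hZ : SGA3x.IsMultTypeFT Z')
    (hc : ∀ (X : Over S') (x : X ⟶ Z') (g : X ⟶ Red.bc π G), (x ≫ z') * g = g * (x ≫ z')) :
    ∃ (Z : Over S) (_ : GrpObj Z) (z : Z ⟶ G), (IsMonHom z ∧ Mono z ∧ SGA3x.IsMultTypeFT Z ∧
      (∀ (X : Over S) (x : X ⟶ Z) (g : X ⟶ G), (x ≫ z) * g = g * (x ≫ z)) ∧
      ∀ (R : Scheme.{u}) (f : R ⟶ S) (H : Over R) [GrpObj H] (v : H ⟶ Red.bc f G) [IsMonHom v],
        SGA3x.IsMultTypeFT H →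
        (∀ (X : Over R) (x : X ⟶ H) (g : X ⟶ Red.bc f G), (x ≫ v) * g = g * (x ≫ v)) →
        ∃ w : H ⟶ Red.bc f Z, w ≫ (Over.pullback f).map z = v) := by
  obtain ⟨U, z, hzm, pts⟩ := exists_model z' hu hZ hc hcov
  let c : ∀ Y : Over S, (Over.map π).obj (Over.mk (pullback.snd Y.hom π)) ⟶ Y := fun Y =>
    CategoryTheory.Over.homMk (pullback.fst Y.hom π) pullback.condition
  have loc : ∀ {Y : Over S} (a : Y ⟶ G),
      (∃ h : Over.mk (pullback.snd Y.hom π) ⟶ Z', h ≫ z' = bcUn π (c Y ≫ a)) → ∃ y : Y ⟶ U, y ≫ z = a :=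
    fun a h => exists_lift_of_bc π hcov z a ((pts _ _).mpr h)
  have cl1 : ∀ Y : Over S, ∃ y : Y ⟶ U, y ≫ z = 1 := fun Y => loc 1 ⟨1, by
    rw [MonObj.one_comp, MonObj.comp_one]; exact bcTr_injective π (by rw [bcTr_bcUn, bcTr_one])⟩
  have cl2 : ∀ {Y : Over S} (a b : Y ⟶ U), ∃ y : Y ⟶ U, y ≫ z = (a ≫ z) * (b ≫ z) := fun {Y} a b => by
    obtain ⟨ha, ea⟩ := (pts _ ((c Y ≫ a) ≫ z)).mp ⟨c Y ≫ a, rfl⟩
    obtain ⟨hb, eb⟩ := (pts _ ((c Y ≫ b) ≫ z)).mp ⟨c Y ≫ b, rfl⟩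
    refine loc _ ⟨ha * hb, ?_⟩
    show _ = bcUn π (c Y ≫ _)
    rw [MonObj.mul_comp, ea, eb, MonObj.comp_mul, bcUn_mul, Category.assoc, Category.assoc]
  have cl3 : ∀ {Y : Over S} (a : Y ⟶ U), ∃ y : Y ⟶ U, y ≫ z = (a ≫ z)⁻¹ := fun {Y} a => by
    obtain ⟨ha, ea⟩ := (pts _ ((c Y ≫ a) ≫ z)).mp ⟨c Y ≫ a, rfl⟩
    refine loc _ ⟨ha⁻¹, ?_⟩
    rw [GrpObj.inv_comp, ea]
    refine bcTr_injective π ?_
    rw [bcTr_inv, bcTr_bcUn, bcTr_bcUn, GrpObj.comp_inv, Category.assoc]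
  obtain ⟨instU, hmon⟩ := GrpScheme.SubgroupObj.exists_grpObj z
    (by
      obtain ⟨y, hy⟩ := cl2 (fst U U) (snd U U)
      refine ⟨y, hy.trans ?_⟩
      rw [Hom.mul_def]
      congr 1)
    (by
      obtain ⟨y, hy⟩ := cl1 (𝟙_ (Over S))
      refine ⟨y, hy.trans ?_⟩
      rw [Hom.one_def, toUnit_unique (toUnit _) (𝟙 (𝟙_ (Over S))), Category.id_comp])
    (by
      obtain ⟨y, hy⟩ := cl3 (𝟙 U)
      refine ⟨y, hy.trans ?_⟩
      rw [Category.id_comp, Hom.inv_def])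
  obtain ⟨a, ha⟩ := (pts _ (bcTr π (𝟙 (Red.bc π U)) ≫ z)).mp ⟨_, rfl⟩
  rw [bcUn_comp, bcUn_bcTr, Category.id_comp] at ha
  obtain ⟨y, hy⟩ := (pts Z' (bcTr π z')).mpr ⟨𝟙 Z', by rw [bcUn_bcTr, Category.id_comp]⟩
  have hb : bcUn π y ≫ (Over.pullback π).map z = z' := by rw [← bcUn_comp, hy, bcUn_bcTr]
  have : Mono ((Over.pullback π).map z) := inferInstance
  let φ : Red.bc π U ≅ Z' :=
    ⟨a, bcUn π y, by rw [← cancel_mono ((Over.pullback π).map z), Category.assoc, hb, ha, Category.id_comp],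
      by rw [← cancel_mono z', Category.assoc, ha, hb, Category.id_comp]⟩
  have hjm : IsMonHom (M := Red.bc π U) (N := Red.bc π G) ((Over.pullback π).map z) := isMonHom_bcMap π z
  have hφ : φ.hom ≫ z' = (Over.pullback π).map z := ha
  have : IsMonHom φ.hom := isMonHom_of_pts φ.hom fun Y p q => by
    rw [← cancel_mono z', Category.assoc, MonObj.mul_comp (p ≫ φ.hom) (q ≫ φ.hom) z', Category.assoc, Category.assoc, hφ]
    exact MonObj.mul_comp (M := Red.bc π U) (N := Red.bc π G) p q ((Over.pullback π).map z)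
  refine ⟨U, instU, z, hmon, hzm, isMultTypeFT_descend π hcov (Grp.mkIso' φ) hZ, fun X x g => ?_,
    fun R f H _ v _ hH hv => ?_⟩
  · let kX := c X
    have : EffectiveEpi kX.left := effectiveEpi_of_cov (pullback.fst X.hom π) (cov_fst X.hom π hcov)
    refine GrpdLib.GrpOver.cancel_left kX ?_
    obtain ⟨hx, ex⟩ := (pts _ ((kX ≫ x) ≫ z)).mp ⟨kX ≫ x, rfl⟩
    have h := congrArg (bcTr π) (hc _ hx (bcUn π (kX ≫ g)))
    rw [bcTr_mul, bcTr_mul, ex, bcTr_bcUn, bcTr_bcUn] at h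
    rw [MonObj.comp_mul, MonObj.comp_mul, ← Category.assoc]
    exact h
  · let X : Over S := (Over.map f).obj H
    let x : X ⟶ G := bcTr f v
    let Y : Over S' := Over.mk (pullback.snd X.hom π)
    obtain ⟨h, hh⟩ := exists_factor z' hu f v hH hv Y (pullback.fst X.hom π) pullback.condition
    obtain ⟨y, hy⟩ := loc x ⟨h, bcTr_injective π (Over.OverMorphism.ext (by
      rw [bcTr_bcUn, bcTr_left, hh]
      simp [x, c, bcTr_left]))⟩
    exact ⟨bcUn f y, bcTr_injective f (by rw [bcTr_map, bcTr_bcUn, hy])⟩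

end Groth.Agent.RedCentre.CentreDesc
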