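import Groth.Agent.RedCentre.ExtLocal
import Groth.Agent.FpqcDesc.Props
import Groth.Agent.DiagRig.MultProp
import Groth.Agent.AffGrp.Bridge
import Groth.Agent.S7782

/-!
# Commutative extensions of groups of multiplicative type
-/

set_option autoImplicit false

universe u

open CategoryTheory CategoryTheory.Limits MonoidalCategory CartesianMonoidalCategory MonObj GrpObj AlgebraicGeometry
open TensorProduct

noncomputable section

namespace Groth.Agent.RedCentre.Ext

open DiagRig ExtLocal

set_option backward.isDefEq.respectTransparency.types false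

variable {S : Scheme.{u}} {E H K : Over S} [GrpObj E] [GrpObj H] [GrpObj K] (p : E ⟶ K) [IsMonHom p]
  (i : H ⟶ E) [IsMonHom i] (hker : AlgGrp.IsKernel i p)

include hker in
/-- The shear square of an extension. -/
theorem isPullback_shear : IsPullback ((fst H E ≫ i) * snd H E) (snd H E) p p := by
  have hip : i ≫ p = 1 := by rw [Hom.one_def]; exact hker.w
  have hη : IsPullback i (toUnit H) p η[K] := hker
  haveI : Mono i := ⟨fun a b h => hη.hom_ext h (toUnit_unique _ _)⟩
  have hw : ((fst H E ≫ i) * snd H E) ≫ p = snd H E ≫ p := by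
    rw [MonObj.mul_comp, Category.assoc, hip, MonObj.comp_one, _root_.one_mul]
  refine ⟨⟨hw⟩, ⟨PullbackCone.IsLimit.mk hw (fun s => lift (hη.lift (s.fst * s.snd⁻¹) (toUnit _) (by
      rw [MonObj.mul_comp, GrpObj.inv_comp, s.condition, mul_inv_cancel, Hom.one_def])) s.snd) (fun s => ?_)
      (fun s => lift_snd _ _) (fun s m h₁ h₂ => ?_)⟩⟩
  · rw [MonObj.comp_mul, lift_fst_assoc, lift_snd, hη.lift_fst, inv_mul_cancel_right]
  · apply CartesianMonoidalCategory.hom_ext
    · rw [lift_fst, ← cancel_mono i, hη.lift_fst, Category.assoc, ← h₁, ← h₂, MonObj.comp_mul, mul_inv_cancel_right]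
    · rw [lift_snd, h₂]

variable [Surjective p.left] [Flat p.left] [QuasiCompact p.left]

include hker in
/-- The projection of an extension by a group of multiplicative type is affine and of finite presentation. -/
theorem props (hH : SGA3x.IsMultTypeFT H) : IsAffineHom p.left ∧ LocallyOfFinitePresentation p.left := by
  have sq := ((isPullback_shear p i hker).map (CategoryTheory.Over.forget S)).flip
  haveI : MorphismProperty.DescendsAlong (@IsAffineHom : MorphismProperty Scheme.{u})
      (@Surjective ⊓ @Flat ⊓ @QuasiCompact) := FpqcDesc.descendsAlong_isAffineHom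
  have h1 : IsAffineHom (snd H E).left :=
    MorphismProperty.pullback_snd (P := @IsAffineHom) _ _ (multType_isAffineHom H hH)
  have h2 : LocallyOfFinitePresentation (snd H E).left :=
    MorphismProperty.pullback_snd (P := @LocallyOfFinitePresentation) _ _ (multType_locallyOfFinitePresentation H hH)
  have hQ : (@Surjective ⊓ @Flat ⊓ @QuasiCompact : MorphismProperty Scheme.{u}) p.left :=
    ⟨⟨‹Surjective p.left›, ‹Flat p.left›⟩, ‹QuasiCompact p.left›⟩
  exact ⟨MorphismProperty.of_isPullback_of_descendsAlong (P := @IsAffineHom)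
      (Q := @Surjective ⊓ @Flat ⊓ @QuasiCompact) sq hQ h1,
    MorphismProperty.of_isPullback_of_descendsAlong (P := @LocallyOfFinitePresentation)
      (Q := @Surjective ⊓ @Flat ⊓ @QuasiCompact) sq hQ h2⟩

include hker in
/-- A commutative extension of groups of multiplicative type is of multiplicative type. -/
theorem isMultTypeFT_ext_comm (hH : SGA3x.IsMultTypeFT H) (hK : SGA3x.IsMultTypeFT K)
    (hcomm : ∀ (X : Over S) (a b : X ⟶ E), a * b = b * a) : SGA3x.IsMultTypeFT E := by
  obtain ⟨hpa, hpl⟩ := props p i hker hH
  have := hpa; have := hpl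
  haveI := multType_isAffineHom K hK
  haveI := multType_locallyOfFinitePresentation K hK
  haveI := multType_flat K hK
  haveI : IsAffineHom E.hom := by rw [← CategoryTheory.Over.w p]; infer_instance
  haveI : Flat E.hom := by rw [← CategoryTheory.Over.w p]; infer_instance
  haveI : LocallyOfFinitePresentation E.hom := by rw [← CategoryTheory.Over.w p]; infer_instance
  refine EtaleCharts.isMultTypeFT_of_models fun x => ?_
  obtain ⟨(W : S.Opens), hW, hxW, -⟩ := exists_isAffineOpen_mem_and_subset (X := S) (x := x) (U := ⊤) trivial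
  let R : CommRingCat.{u} := Γ(S, W)
  let w : Spec R ⟶ S := hW.fromSpec
  let E₀ : Over (Spec R) := Red.bc w E
  have : IsAffineHom E₀.hom := MorphismProperty.pullback_snd (P := @IsAffineHom) E.hom w inferInstance
  have : IsAffine E₀.left := isAffine_of_isAffineHom E₀.hom
  obtain ⟨C, instC, e₀, he₀⟩ := AffGrp.Bridge.exists_iso E₀
  refine ⟨R, w, C, inferInstance, instC, e₀, he₀, inferInstance, by rw [hW.range_fromSpec]; exact hxW, ?_⟩
  have : IsMonHom e₀.hom := he₀
  haveI : IsIso e₀.hom.left := (inferInstance : IsIso ((CategoryTheory.Over.forget _).map e₀.hom))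
  have hfl : Flat ((Spec C).asOver (Spec R)).hom := by
    have : Flat E₀.hom := MorphismProperty.pullback_snd (P := @Flat) E.hom w inferInstance
    have h : Flat (e₀.hom.left ≫ E₀.hom) := inferInstance
    exact CategoryTheory.Over.w e₀.hom ▸ h
  have hlfp : LocallyOfFinitePresentation ((Spec C).asOver (Spec R)).hom := by
    have : LocallyOfFinitePresentation E₀.hom :=
      MorphismProperty.pullback_snd (P := @LocallyOfFinitePresentation) E.hom w inferInstance
    have h : LocallyOfFinitePresentation (e₀.hom.left ≫ E₀.hom) := inferInstance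
    exact CategoryTheory.Over.w e₀.hom ▸ h
  haveI : Module.Flat R C := RingHom.flat_algebraMap_iff.mp (HasRingHomProperty.Spec_iff.mp hfl)
  have hfp : Algebra.FinitePresentation R C :=
    RingHom.finitePresentation_algebraMap.mp (HasRingHomProperty.Spec_iff.mp hlfp)
  haveI : Coalgebra.IsCocomm R C := S7782.isCocomm R C fun T a b => by
    rw [← cancel_mono e₀.hom, MonObj.mul_comp, MonObj.mul_comp]
    apply bcTr_injective w
    rw [bcTr_mul, bcTr_mul]
    exact hcomm _ _ _
  have : IsMonHom e₀.symm.hom := inferInstanceAs (IsMonHom e₀.inv)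
  obtain ⟨d₀⟩ := nonempty_bc
    (⟨p, i, inferInstance, inferInstance, inferInstance, inferInstance, inferInstance, hker, hH, hK⟩ : Data E) w e₀.symm
  refine MultType.Fibres.isMultType_of_local hfp fun P hP => ?_
  obtain ⟨eW, heW⟩ := exists_bcSpecIso R C (Localization.AtPrime P)
  have := heW
  obtain ⟨d⟩ := nonempty_bc d₀ _ eW
  exact isMultType_local (Localization.AtPrime P) (Localization.AtPrime P ⊗[R] C) inferInstance d

end Groth.Agent.RedCentre.Ext
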