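import Groth.Agent.RedCentre.Ext
import Groth.Agent.RedCentre.Bilinear
import Groth.Agent.DiagRig.EqLocus
import Groth.Agent.MultCrit.Ext
import Mathlib.GroupTheory.Commutator.Basic

/-!
# Commutativity of extensions of groups of multiplicative type
-/

set_option autoImplicit false

universe u

open CategoryTheory CategoryTheory.Limits MonoidalCategory CartesianMonoidalCategory MonObj GrpObj AlgebraicGeometry

noncomputable section

namespace Groth.Agent.RedCentre.ExtComm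

open DiagRig

open scoped commutatorElement

set_option backward.isDefEq.respectTransparency.types false
set_option maxHeartbeats 800000

variable {S : Scheme.{u}} {E H K : Over S} [GrpObj E] [GrpObj H] [GrpObj K] (p : E ⟶ K) [IsMonHom p]
  [Surjective p.left] [Flat p.left] [QuasiCompact p.left] (i : H ⟶ E) [IsMonHom i]
  (hker : AlgGrp.IsKernel i p)

include hker in
/-- An extension of groups of multiplicative type is commutative if the quotient has connected fibres or if all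
fibres are commutative. -/
theorem comm (hH : SGA3x.IsMultTypeFT H) (hK : SGA3x.IsMultTypeFT K)
    (hcond : GeometricallyConnected K.hom ∨
      ∀ (s : S) (T : Over S) (z : T.left ⟶ Spec (S.residueField s)), z ≫ S.fromSpecResidueField s = T.hom →
        ∀ a b : T ⟶ E, a * b = b * a)
    (X : Over S) (a b : X ⟶ E) : a * b = b * a := by
  obtain ⟨hpa, hpl⟩ := Ext.props p i hker hH
  haveI := multType_isAffineHom K hK
  haveI := multType_locallyOfFinitePresentation K hK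
  haveI := multType_isAffineHom H hH
  haveI := multType_locallyOfFinitePresentation H hH
  haveI : IsAffineHom E.hom := by rw [← CategoryTheory.Over.w p]; infer_instance
  haveI : LocallyOfFinitePresentation E.hom := by rw [← CategoryTheory.Over.w p]; infer_instance
  have hη : IsPullback i (toUnit H) p η[K] := hker
  haveI : Mono i := ⟨fun x y h => hη.hom_ext h (toUnit_unique _ _)⟩
  have hkl : ∀ {T : Over S} (x : T ⟶ E), x ≫ p = 1 → ∃ n : T ⟶ H, n ≫ i = x := fun x hx =>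
    ⟨hη.lift x (toUnit _) (by rw [hx, Hom.one_def]), hη.lift_fst _ _ _⟩
  have hip : i ≫ p = 1 := by rw [Hom.one_def]; exact hker.w
  have hKc : ∀ {T : Over S} (x y : T ⟶ K), x * y = y * x := fun x y =>
    mul_comm_of_splitFpqc (splitFpqc_of_multTypeFT K hK) x y
  have hHc : ∀ {T : Over S} (x y : T ⟶ H), x * y = y * x := fun x y =>
    mul_comm_of_splitFpqc (splitFpqc_of_multTypeFT H hH) x y
  have hdiff : ∀ {T : Over S} (e e' : T ⟶ E), e ≫ p = e' ≫ p → ∃ n : T ⟶ H, e' = e * (n ≫ i) := fun e e' h => by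
    obtain ⟨n, hn⟩ := hkl (e⁻¹ * e') (by rw [MonObj.mul_comp, GrpObj.inv_comp, h, inv_mul_cancel])
    exact ⟨n, by rw [hn, mul_inv_cancel_left]⟩
  -- the subgroup is central
  have hcomm1 : ∀ {T : Over S} (e : T ⟶ E) (n : T ⟶ H), ⁅e, n ≫ i⁆ ≫ p = 1 := fun {T} e n => by
    rw [commutatorElement_def, MonObj.mul_comp, MonObj.mul_comp, MonObj.mul_comp, GrpObj.inv_comp, GrpObj.inv_comp,
      show (n ≫ i) ≫ p = 1 by rw [Category.assoc, hip, MonObj.comp_one]]
    group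
  obtain ⟨c, hc⟩ := hkl ⁅snd H E, fst H E ≫ i⁆ (hcomm1 _ _)
  have hc' : ∀ {T : Over S} (n : T ⟶ H) (e : T ⟶ E), (lift n e ≫ c) ≫ i = ⁅e, n ≫ i⁆ := fun {T} n e => by
    rw [Category.assoc, hc]
    refine (map_commutatorElement (NilCentral.pre (G := E) (lift n e)) _ _).trans ?_
    rw [NilCentral.pre_apply, NilCentral.pre_apply, lift_snd, lift_fst_assoc]
  obtain ⟨ψ, hψ⟩ := MultCrit.Ext.exists_desc₂ p c fun T n e e' h => by
    obtain ⟨m, rfl⟩ := hdiff e e' h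
    rw [← cancel_mono i, hc', hc']
    have : Commute (m ≫ i) (n ≫ i) := by
      show (m ≫ i) * (n ≫ i) = (n ≫ i) * (m ≫ i)
      rw [← MonObj.mul_comp, ← MonObj.mul_comp, hHc]
    rw [commutatorElement_def, commutatorElement_def, mul_assoc e (m ≫ i), this.eq]
    group
  obtain ⟨φ, hφ⟩ : ∃ φ : K ⊗ H ⟶ H, ∀ {T : Over S} (k : T ⟶ K) (n : T ⟶ H), lift k n ≫ φ = lift n k ≫ ψ :=
    ⟨lift (snd K H) (fst K H) ≫ ψ, fun k n => by simp only [comp_lift_assoc, lift_snd, lift_fst]⟩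
  have hφmul : ∀ (Y : Over S) (k : Y ⟶ K) (n n' : Y ⟶ H),
      lift k (n * n') ≫ φ = (lift k n ≫ φ) * (lift k n' ≫ φ) := fun Y k n n' => by
    obtain ⟨Y', d, e, _, _, _, _, he⟩ := GrpdLib.GrpOver.exists_lift p k
    refine GrpdLib.GrpOver.cancel_left d ?_
    rw [MonObj.comp_mul, comp_lift_assoc, comp_lift_assoc, comp_lift_assoc, ← he, hφ, hφ, hφ, hψ, hψ, hψ,
      ← cancel_mono i, MonObj.mul_comp, hc', hc', hc', MonObj.comp_mul, MonObj.mul_comp]
    have hcm : Commute ⁅e, (d ≫ n') ≫ i⁆ ((d ≫ n) ≫ i) := by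
      obtain ⟨m, hm⟩ := hkl _ (hcomm1 e (d ≫ n'))
      rw [← hm]
      show (m ≫ i) * _ = _ * (m ≫ i)
      rw [← MonObj.mul_comp, ← MonObj.mul_comp, hHc]
    generalize (d ≫ n) ≫ i = x at hcm ⊢
    generalize (d ≫ n') ≫ i = y at hcm ⊢
    rw [show ⁅e, x * y⁆ = ⁅e, x⁆ * (x * ⁅e, y⁆ * x⁻¹) by simp only [commutatorElement_def]; group,
      ← hcm.eq, mul_inv_cancel_right]
  have hφ1 : ∀ (Y : Over S) (k : Y ⟶ K) (n : Y ⟶ H), lift k n ≫ φ = 1 := by
    rcases hcond with hconn | hfib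
    · refine Bilinear.eq_one_of_section φ hH hφmul 1 fun Y n => ?_
      rw [MonObj.comp_one, hφ, ← MonObj.one_comp (M := E) p, hψ, ← cancel_mono i, hc', MonObj.one_comp,
        commutatorElement_one_left]
    · refine Bilinear.eq_one_of_fibres φ hH hφmul fun s Y z hz k n => ?_
      obtain ⟨Y', d, e, _, _, _, _, he⟩ := GrpdLib.GrpOver.exists_lift p k
      refine GrpdLib.GrpOver.cancel_left d ?_
      rw [MonObj.comp_one, comp_lift_assoc, ← he, hφ, hψ, ← cancel_mono i, hc', MonObj.one_comp,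
        commutatorElement_eq_one_iff_mul_comm]
      exact hfib s Y' (d.left ≫ z) (by rw [Category.assoc, hz]; exact CategoryTheory.Over.w d) _ _
  have hcen : ∀ {T : Over S} (e : T ⟶ E) (n : T ⟶ H), Commute e (n ≫ i) := fun e n => by
    have h := congrArg (· ≫ i) (hφ1 _ (e ≫ p) n)
    rw [hφ, hψ, hc', MonObj.one_comp] at h
    exact commutatorElement_eq_one_iff_commute.1 h
  -- the commutator pairing
  have hcommp : ∀ {T : Over S} (x y : T ⟶ E), ∃ m : T ⟶ H, m ≫ i = ⁅x, y⁆ := fun x y => hkl _ (by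
    rw [commutatorElement_def, MonObj.mul_comp, MonObj.mul_comp, MonObj.mul_comp, GrpObj.inv_comp, GrpObj.inv_comp,
      hKc (x ≫ p) (y ≫ p)]
    group)
  let d₀ : E ⊗ E ⟶ E := ⁅fst E E, snd E E⁆
  have hd₀ : ∀ {T : Over S} (x y : T ⟶ E), lift x y ≫ d₀ = ⁅x, y⁆ := fun x y => by
    refine (map_commutatorElement (NilCentral.pre (G := E) (lift x y)) _ _).trans ?_
    rw [NilCentral.pre_apply, NilCentral.pre_apply, lift_fst, lift_snd]
  obtain ⟨ψ₂, hψ₂⟩ := MultCrit.Ext.exists_desc₂ p d₀ fun T x y y' h => by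
    obtain ⟨m, rfl⟩ := hdiff y y' h
    rw [hd₀, hd₀, show ⁅x, y * (m ≫ i)⁆ = ⁅x, y⁆ * (y * ⁅x, m ≫ i⁆ * y⁻¹) by simp only [commutatorElement_def]; group,
      commutatorElement_eq_one_iff_commute.2 (hcen x m), _root_.mul_one, mul_inv_cancel, _root_.mul_one]
  obtain ⟨θ, hθ⟩ : ∃ θ : K ⊗ E ⟶ E, ∀ {T : Over S} (k : T ⟶ K) (e : T ⟶ E), lift k e ≫ θ = lift e k ≫ ψ₂ :=
    ⟨lift (snd K E) (fst K E) ≫ ψ₂, fun k e => by simp only [comp_lift_assoc, lift_snd, lift_fst]⟩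
  obtain ⟨ψ₃, hψ₃⟩ := MultCrit.Ext.exists_desc₂ p θ fun T k x x' h => by
    obtain ⟨T', d, y, _, _, _, _, hy⟩ := GrpdLib.GrpOver.exists_lift p k
    obtain ⟨m, rfl⟩ := hdiff x x' h
    refine GrpdLib.GrpOver.cancel_left d ?_
    rw [comp_lift_assoc, comp_lift_assoc, ← hy, hθ, hθ, hψ₂, hψ₂, hd₀, hd₀, MonObj.comp_mul, ← Category.assoc]
    rw [show ⁅(d ≫ x) * ((d ≫ m) ≫ i), y⁆ = (d ≫ x) * ⁅(d ≫ m) ≫ i, y⁆ * (d ≫ x)⁻¹ * ⁅d ≫ x, y⁆ by
        simp only [commutatorElement_def]; group,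
      commutatorElement_eq_one_iff_commute.2 (hcen y (d ≫ m)).symm, _root_.mul_one, mul_inv_cancel, _root_.one_mul]
  have hψ₃' : ∀ {T : Over S} (x y : T ⟶ E), lift (y ≫ p) (x ≫ p) ≫ ψ₃ = ⁅x, y⁆ := fun x y => by
    rw [hψ₃, hθ, hψ₂, hd₀]
  have hψ₃mul : ∀ (Y : Over S) (k : Y ⟶ K) (l l' : Y ⟶ K),
      lift k (l * l') ≫ ψ₃ = (lift k l ≫ ψ₃) * (lift k l' ≫ ψ₃) := fun Y k l l' => by
    obtain ⟨Y₁, d₁, y, _, _, _, _, hy⟩ := GrpdLib.GrpOver.exists_lift p k
    obtain ⟨Y₂, d₂, x, _, _, _, _, hx⟩ := GrpdLib.GrpOver.exists_lift p (d₁ ≫ l)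
    obtain ⟨Y₃, d₃, x', _, _, _, _, hx'⟩ := GrpdLib.GrpOver.exists_lift p (d₂ ≫ d₁ ≫ l')
    refine GrpdLib.GrpOver.cancel_left d₁ (GrpdLib.GrpOver.cancel_left d₂ (GrpdLib.GrpOver.cancel_left d₃ ?_))
    simp only [MonObj.comp_mul, comp_lift_assoc]
    rw [← hy, ← hx, ← hx', ← Category.assoc d₂ y, ← Category.assoc d₃ (d₂ ≫ y), ← Category.assoc d₃ x,
      ← MonObj.mul_comp, hψ₃', hψ₃', hψ₃']
    obtain ⟨m, hm⟩ := hcommp x' (d₃ ≫ d₂ ≫ y)
    rw [show ⁅(d₃ ≫ x) * x', d₃ ≫ d₂ ≫ y⁆ = (d₃ ≫ x) * ⁅x', d₃ ≫ d₂ ≫ y⁆ * (d₃ ≫ x)⁻¹ * ⁅d₃ ≫ x, d₃ ≫ d₂ ≫ y⁆ by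
        simp only [commutatorElement_def]; group, ← hm, (hcen (d₃ ≫ x) m).eq, mul_inv_cancel_right]
    exact (hcen _ m).eq.symm
  have hψ₃1 : ∀ (Y : Over S) (k l : Y ⟶ K), lift k l ≫ ψ₃ = 1 := by
    rcases hcond with hconn | hfib
    · refine Bilinear.eq_one_of_section ψ₃ hK hψ₃mul 1 fun Y l => ?_
      obtain ⟨Y', d, x, _, _, _, _, hx⟩ := GrpdLib.GrpOver.exists_lift p l
      refine GrpdLib.GrpOver.cancel_left d ?_
      rw [MonObj.comp_one, MonObj.comp_one, comp_lift_assoc, ← hx, MonObj.comp_one,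
        ← MonObj.one_comp (M := E) p, hψ₃', commutatorElement_one_right]
    · refine Bilinear.eq_one_of_fibres ψ₃ hK hψ₃mul fun s Y z hz k l => ?_
      obtain ⟨Y₁, d₁, y, _, _, _, _, hy⟩ := GrpdLib.GrpOver.exists_lift p k
      obtain ⟨Y₂, d₂, x, _, _, _, _, hx⟩ := GrpdLib.GrpOver.exists_lift p (d₁ ≫ l)
      refine GrpdLib.GrpOver.cancel_left d₁ (GrpdLib.GrpOver.cancel_left d₂ ?_)
      simp only [MonObj.comp_one, comp_lift_assoc]
      rw [← hy, ← hx, ← Category.assoc d₂ y, hψ₃', commutatorElement_eq_one_iff_mul_comm]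
      exact hfib s Y₂ (d₂.left ≫ d₁.left ≫ z)
        (by rw [Category.assoc, Category.assoc, hz, CategoryTheory.Over.w d₁, CategoryTheory.Over.w d₂]) _ _
  exact commutatorElement_eq_one_iff_mul_comm.1 ((hψ₃' a b).symm.trans (hψ₃1 _ _ _))

include hker in
/-- An extension of groups of multiplicative type is of multiplicative type if it is commutative on the fibres or
the quotient has connected fibres. -/
theorem isMultTypeFT_ext (hH : SGA3x.IsMultTypeFT H) (hK : SGA3x.IsMultTypeFT K)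
    (hcond : GeometricallyConnected K.hom ∨
      ∀ (s : S) (T : Over S) (z : T.left ⟶ Spec (S.residueField s)), z ≫ S.fromSpecResidueField s = T.hom →
        ∀ a b : T ⟶ E, a * b = b * a) : SGA3x.IsMultTypeFT E :=
  Ext.isMultTypeFT_ext_comm p i hker hH hK (comm p i hker hH hK hcond)

end Groth.Agent.RedCentre.ExtComm
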