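import Groth.Agent.DiagRig.MTUnipScheme
import Groth.Agent.CocommUnip19.Mult
import Groth.Agent.DiagRig.HopfBridge
import Groth.Agent.DiagRig.SubDescent
import Groth.Agent.GrpdLib.GrpOver
import Groth.Agent.MultType.Fibres
import Groth.Prelude.Def_AlgGrp
import Mathlib.AlgebraicGeometry.Sites.Fpqc

/-!
# Commutative extensions of groups of multiplicative type over a field
-/

set_option autoImplicit false

universe u

open CategoryTheory CategoryTheory.Limits MonoidalCategory CartesianMonoidalCategory MonObj GrpObj AlgebraicGeometry WithConv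

noncomputable section

namespace Groth.Agent.RedCentre.ExtField

open DiagRig GrpdLib.AffHomogeneous Comod

set_option backward.isDefEq.respectTransparency.types false

attribute [local instance] UnipLib.algOf

variable {k : Type u} [Field k] {A : Type u} [CommRing A] [HopfAlgebra k A]

/-- The unipotent filtration of a Hopf subalgebra is the trace of that of the whole algebra. -/
theorem mem_fil_of_incl {B : Type u} [CommRing B] [HopfAlgebra k B] (inc : B →ₐc[k] A) (hinc : Function.Injective inc) :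
    ∀ (n : ℕ) (x : B), inc x ∈ fil k A A n → x ∈ fil k B B n := by
  intro n
  induction n with
  | zero =>
    intro x hx
    exact (Submodule.mem_bot k).2 (hinc (((Submodule.mem_bot k).1 hx).trans (map_zero inc).symm))
  | succ n ih =>
    intro x hx
    refine mem_fil_succ_iff.2 fun ψ => ih _ ?_
    obtain ⟨g, hg⟩ := LinearMap.exists_leftInverse_of_injective (inc : B →ₗ[k] A) (LinearMap.ker_eq_bot.2 hinc)
    let φ : A →ₗ[k] k := ψ ∘ₗ g
    have hφ' : ∀ y, φ (inc y) = ψ y := fun y => congrArg ψ (LinearMap.congr_fun hg y)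
    have h1 : inc (contract ψ x) = contract φ (inc x) := by
      rw [contract_apply, contract_apply]
      show inc (slice ψ (Coalgebra.comul (R := k) x)) = slice φ (Coalgebra.comul (R := k) (inc x))
      rw [← CoalgHomClass.map_comp_comul_apply]
      generalize Coalgebra.comul (R := k) x = t
      induction t using TensorProduct.induction_on with
      | zero => simp
      | add a b ha hb => rw [map_add, map_add, map_add, map_add, ha, hb]
      | tmul a b => simp [hφ']
    have h2 : inc (contract ψ x - ψ 1 • x) = contract φ (inc x) - φ 1 • inc x := by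
      rw [map_sub, map_smul, h1, ← hφ' 1, map_one]
    rw [h2]
    exact mem_fil_succ_iff.1 hx φ

/-- A homomorphism from a group of multiplicative type over the field kills the unipotent filtration. -/
theorem kills_id {H : Over (Spec (CommRingCat.of k))} [GrpObj H] (hH : SGA3x.IsMultTypeFT H)
    (v : H ⟶ specG (k := k) A) [IsMonHom v] {n : ℕ} {b : A} (hb : b ∈ fil k A A n) :
    ((ptEquiv H).symm v).ofConv b = algebraMap k Γ(H.left, ⊤) (Coalgebra.counit b) := by
  let e : ∀ X : Over (Spec (CommRingCat.of k)), (Over.map (𝟙 (Spec (CommRingCat.of k)))).obj X ≅ X := fun X =>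
    Over.isoMk (Iso.refl _) (by simp)
  let v' : H ⟶ Red.bc (𝟙 _) (specG (k := k) A) := bcUn (𝟙 _) ((e H).hom ≫ v)
  have hv' : ∀ {X : Over (Spec (CommRingCat.of k))} (x : X ⟶ H),
      bcTr (𝟙 _) (x ≫ v') = (e X).hom ≫ x ≫ v := fun {X} x => by
    rw [bcTr_comp, bcTr_bcUn, ← Category.assoc, ← Category.assoc]
    rfl
  have : IsMonHom v' := isMonHom_of_pts v' fun X x y => by
    rw [← bcUn_bcTr (𝟙 _) ((x * y) ≫ v'), ← bcUn_bcTr (𝟙 _) (x ≫ v' * (y ≫ v')), hv', bcTr_mul, hv', hv',
      MonObj.mul_comp, MonObj.comp_mul]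
  have h := MTUnip.kills (𝟙 _) hH v' hb
  rw [bcTr_bcUn, comp_ptEquiv (k := k) (A := A)] at h
  have hinj : Function.Injective (gam (e H).hom) := fun a b hab => by
    have h2 : (e H).hom.left.appTop = 𝟙 _ := Scheme.Hom.id_appTop
    exact (congrArg (fun f => (ConcreteCategory.hom f) a) h2).symm.trans
      ((show _ = _ from hab).trans (congrArg (fun f => (ConcreteCategory.hom f) b) h2))
  exact hinj (h.trans (AlgHom.commutes _ _).symm)

/-- A Hopf algebra over a field whose group is a commutative extension of groups of multiplicative type is of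
multiplicative type. -/
theorem isMultType_of_ext [Algebra.FiniteType k A] [Coalgebra.IsCocomm k A]
    {H K : Over (Spec (CommRingCat.of k))} [GrpObj H] [GrpObj K] (p : specG (k := k) A ⟶ K) [IsMonHom p]
    [Surjective p.left] [Flat p.left] [QuasiCompact p.left]
    (i : H ⟶ specG (k := k) A) [IsMonHom i] (hker : AlgGrp.IsKernel i p)
    (hH : SGA3x.IsMultTypeFT H) (hK : SGA3x.IsMultTypeFT K) : SGA3b.IsMultType k A := by
  letI := HopfSub.hopfAlgebra (CocommUnip19.isHopfSubalgebra_unitComp (k := k) (A := A))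
  let B := ↥(CocommUnip19.unitComp k A)
  let inc : B →ₐc[k] A := HopfSub.incl (CocommUnip19.isHopfSubalgebra_unitComp (k := k) (A := A))
  let θ : specG (k := k) A ⟶ specG (k := k) B :=
    (Spec.map (CommRingCat.ofHom (inc : B →ₐ[k] A).toRingHom)).asOver (Spec (CommRingCat.of k))
  have : IsMonHom θ := DiagRig.isMonHom_spec inc
  have hθ : ∀ {X : Over (Spec (CommRingCat.of k))} (x : X ⟶ specG (k := k) A),
      x ≫ θ = ptEquiv X (toConv (((ptEquiv X).symm x).ofConv.comp (inc : B →ₐ[k] A))) := fun {X} x => by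
    refine Over.OverMorphism.ext ?_
    conv_lhs => rw [← (ptEquiv (A := A) X).apply_symm_apply x]
    show (X.left.toSpecΓ ≫ Spec.map (CommRingCat.ofHom ((ptEquiv X).symm x).ofConv.toRingHom)) ≫
      Spec.map (CommRingCat.ofHom _) = X.left.toSpecΓ ≫ Spec.map (CommRingCat.ofHom _)
    rw [Category.assoc, ← Spec.map_comp]
    rfl
  have hiθ : i ≫ θ = 1 := by
    apply (ptEquiv (A := B) H).symm.injective
    rw [hθ, MulEquiv.symm_apply_apply, map_one]
    refine WithConv.ext (AlgHom.ext fun b => ?_)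
    obtain ⟨n, hn⟩ := b.2
    show ((ptEquiv H).symm i).ofConv (inc b) = (1 : WithConv (B →ₐ[k] Γ(H.left, ⊤))) b
    rw [kills_id hH i (show inc b ∈ fil k A A n from hn), AlgHom.convOne_apply]
    exact congrArg _ (CoalgHomClass.counit_comp_apply inc b)
  have hconst : ∀ (X : Over (Spec (CommRingCat.of k))) (u v : X ⟶ specG (k := k) A), u ≫ p = v ≫ p → u ≫ θ = v ≫ θ := by
    intro X u v h
    have h1 : (u * v⁻¹) ≫ p = 1 := by rw [MonObj.mul_comp, GrpObj.inv_comp, h, mul_inv_cancel]
    obtain ⟨a, ha⟩ : ∃ a, a ≫ i = u * v⁻¹ :=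
      ⟨hker.lift (u * v⁻¹) (toUnit X) (by rw [h1, Hom.one_def]), hker.lift_fst _ _ _⟩
    have h2 : (u * v⁻¹) ≫ θ = 1 := by rw [← ha, Category.assoc, hiθ, MonObj.comp_one]
    rwa [MonObj.mul_comp, GrpObj.inv_comp, mul_inv_eq_one] at h2
  obtain ⟨θ', hθ', -⟩ := GrpdLib.GrpOver.existsUnique_desc p θ hconst
  have : IsMonHom θ' := isMonHom_of_pts θ' fun Y x y => by
    obtain ⟨Y₁, c₁, x₁, _, _, _, _, hx⟩ := GrpdLib.GrpOver.exists_lift p x
    obtain ⟨Y₂, c₂, y₂, _, _, _, _, hy⟩ := GrpdLib.GrpOver.exists_lift p (c₁ ≫ y)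
    refine GrpdLib.GrpOver.cancel_left c₁ (GrpdLib.GrpOver.cancel_left c₂ ?_)
    have e1 : c₂ ≫ c₁ ≫ x = (c₂ ≫ x₁) ≫ p := by rw [← hx, Category.assoc]
    have e : c₂ ≫ c₁ ≫ (x * y) = ((c₂ ≫ x₁) * y₂) ≫ p := by
      rw [MonObj.comp_mul, MonObj.comp_mul, MonObj.mul_comp, e1, hy]
    calc c₂ ≫ c₁ ≫ (x * y) ≫ θ' = (((c₂ ≫ x₁) * y₂) ≫ p) ≫ θ' := by rw [← e]; simp only [Category.assoc]
      _ = ((c₂ ≫ x₁) ≫ p ≫ θ') * (y₂ ≫ p ≫ θ') := by rw [Category.assoc, hθ', MonObj.mul_comp]
      _ = _ := by rw [MonObj.comp_mul, MonObj.comp_mul, ← Category.assoc (c₂ ≫ x₁), ← e1, ← Category.assoc y₂, hy]; simp only [Category.assoc]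
  have hθ1 : θ' = 1 := by
    apply (ptEquiv (A := B) K).symm.injective
    rw [map_one]
    refine WithConv.ext (AlgHom.ext fun b => ?_)
    obtain ⟨n, hn⟩ := b.2
    rw [AlgHom.convOne_apply]
    exact kills_id hK θ' (mem_fil_of_incl inc Subtype.val_injective n b hn)
  have hall : ∀ b : B, inc b = algebraMap k A (Coalgebra.counit b) := fun b => by
    let X : Over (Spec (CommRingCat.of k)) := specG (k := k) A
    let g := ((ptEquiv X).symm (𝟙 X)).ofConv
    have hg : Function.Injective g := by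
      have h := UnipLib.ptHom_appTop X ((ptEquiv X).symm (𝟙 X))
      rw [show UnipLib.ptHom X ((ptEquiv X).symm (𝟙 X)) = 𝟙 X from (ptEquiv X).apply_symm_apply _,
        CategoryTheory.Over.id_left, Scheme.Hom.id_appTop] at h
      intro a b hab
      apply (Scheme.ΓSpecIso (CommRingCat.of A)).symm.commRingCatIsoToRingEquiv.injective
      exact (congr($h a)).trans (hab.trans (congr($h b)).symm)
    apply hg
    have h1 : θ = 1 := by rw [← hθ', hθ1, MonObj.comp_one]
    have h2 := congrArg (fun x => ((ptEquiv X).symm x).ofConv b) (hθ (𝟙 X))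
    simp only [Category.id_comp, h1, map_one, MulEquiv.symm_apply_apply] at h2
    rw [AlgHom.commutes]
    exact h2.symm.trans (by rw [AlgHom.convOne_apply])
  have hJ : CocommUnip19.multIdeal k A = ⊥ := by
    refine le_bot_iff.1 (Ideal.map_le_iff_le_comap.2 fun b hb => ?_)
    rw [Ideal.mem_comap, Ideal.mem_bot]
    show inc b = 0
    rw [hall b, show Coalgebra.counit (R := k) b = 0 from hb, map_zero]
  obtain ⟨T, _, _, hT, hD⟩ := CocommUnip19.isMultTypeConst_multIdeal (k := k) (A := A)
  have hbij : Function.Bijective (Bialgebra.Quotient.mkBialgHom (R := k) (CocommUnip19.multIdeal k A)) := by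
    refine ⟨fun a b h => ?_, Ideal.Quotient.mk_surjective⟩
    have h' := Ideal.Quotient.eq.1 (h : Ideal.Quotient.mk _ a = Ideal.Quotient.mk _ b)
    rwa [hJ, Ideal.mem_bot, sub_eq_zero] at h'
  exact MultType.Fibres.isMultType_congr (BialgEquiv.ofBijective _ hbij).symm (MultType.Diag.isMultType_of_diag T hD)

end Groth.Agent.RedCentre.ExtField
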