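import Groth.Agent.RedCentre.ExtField
import Groth.Agent.DiagRig.ExtSurj
import Groth.Agent.DiagRig.EtaleCharts
import Groth.Agent.DiagRig.TorusQuot
import Groth.Agent.MultType.LocalMult
import Groth.Agent.MultType.OpenSub

/-!
# Commutative extensions of groups of multiplicative type over a local ring
-/

set_option autoImplicit false

universe u

open CategoryTheory CategoryTheory.Limits MonoidalCategory CartesianMonoidalCategory MonObj GrpObj AlgebraicGeometry
open TensorProduct

noncomputable section

namespace Groth.Agent.RedCentre.ExtLocal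

open DiagRig

set_option backward.isDefEq.respectTransparency.types false

/-- An extension of groups of multiplicative type (data). -/
structure Data {S : Scheme.{u}} (E : Over S) [GrpObj E] where
  {H : Over S}
  {K : Over S}
  [gH : GrpObj H]
  [gK : GrpObj K]
  (p : E ⟶ K)
  (i : H ⟶ E)
  hp : IsMonHom p
  hi : IsMonHom i
  surj : Surjective p.left
  flat : Flat p.left
  qc : QuasiCompact p.left
  ker : AlgGrp.IsKernel i p
  hH : SGA3x.IsMultTypeFT H
  hK : SGA3x.IsMultTypeFT K

attribute [instance] Data.gH Data.gK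

/-- Base change preserves kernels. -/
theorem isKernel_bc {S S' : Scheme.{u}} (f : S' ⟶ S) {N G Q : Over S} [GrpObj Q] {i : N ⟶ G} {q : G ⟶ Q}
    (h : AlgGrp.IsKernel i q) : AlgGrp.IsKernel ((Over.pullback f).map i) ((Over.pullback f).map q) :=
  (Functor.map_isPullback (Over.pullback f) h).of_iso (Iso.refl _) (Iso.refl _)
    (Functor.Monoidal.εIso (Over.pullback f)).symm (Iso.refl _) (by simp) (toUnit_unique _ _) (by simp)
    (by
      show (Over.pullback f).map η[Q] ≫ 𝟙 _ =
        Functor.OplaxMonoidal.η (Over.pullback f) ≫ Functor.LaxMonoidal.ε (Over.pullback f) ≫ (Over.pullback f).map η[Q]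
      rw [Category.comp_id, Functor.Monoidal.η_ε_assoc])

/-- Base change of an extension, read on an isomorphic group. -/
theorem nonempty_bc {S S' : Scheme.{u}} {E : Over S} [GrpObj E] (d : Data E) (f : S' ⟶ S) {X : Over S'} [GrpObj X]
    (e : Red.bc f E ≅ X) [IsMonHom e.hom] : Nonempty (Data X) := by
  have := d.hp
  have := d.hi
  have := d.surj
  have := d.flat
  have := d.qc
  let pf := (Over.pullback f).map d.p
  let iF := (Over.pullback f).map d.i
  have : IsMonHom (M := Red.bc f E) (N := Red.bc f d.K) pf := isMonHom_bcMap f d.p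
  have : IsMonHom (M := Red.bc f d.H) (N := Red.bc f E) iF := isMonHom_bcMap f d.i
  have : IsMonHom e.inv := inferInstance
  haveI : IsIso e.inv.left := ((Over.forget _).mapIso e.symm).isIso_hom
  haveI : Surjective pf.left := MorphismProperty.of_isPullback (isPullback_bcMap f d.p) d.surj
  haveI : Flat pf.left := MorphismProperty.of_isPullback (isPullback_bcMap f d.p) d.flat
  haveI : QuasiCompact pf.left := MorphismProperty.of_isPullback (isPullback_bcMap f d.p) d.qc
  refine ⟨{ H := Red.bc f d.H, K := Red.bc f d.K, p := e.inv ≫ pf, i := iF ≫ e.hom, hp := inferInstance,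
            hi := inferInstance, surj := inferInstanceAs (Surjective (e.inv.left ≫ pf.left)),
            flat := inferInstanceAs (Flat (e.inv.left ≫ pf.left)),
            qc := inferInstanceAs (QuasiCompact (e.inv.left ≫ pf.left)),
            ker := (isKernel_bc f d.ker).of_iso (Iso.refl _) e (Iso.refl _) (Iso.refl _) (by simp [iF])
              (by simp) (by simp [pf]) (by simp),
            hH := isMultTypeFT_bc f d.hH, hK := isMultTypeFT_bc f d.hK }⟩

/-- Cocommutative gives commuting points. -/
theorem comm_of_cocomm {R : CommRingCat.{u}} {Z : Type u} [CommRing Z] [HopfAlgebra R Z] [Coalgebra.IsCocomm R Z]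
    {X : Over (Spec R)} (a b : X ⟶ (Spec (CommRingCat.of Z)).asOver (Spec R)) : a * b = b * a :=
  _root_.mul_comm a b

/-- Over a local ring. -/
theorem isMultType_local (R : Type u) [CommRing R] [IsLocalRing R] (C : Type u) [CommRing C] [HopfAlgebra R C]
    [Coalgebra.IsCocomm R C] [Module.Flat R C] (hfp : Algebra.FinitePresentation R C)
    (d : Data ((Spec (CommRingCat.of C)).asOver (Spec (CommRingCat.of R)))) : SGA3b.IsMultType R C := by
  haveI := hfp
  let κ := IsLocalRing.ResidueField R
  obtain ⟨eκ, heκ⟩ := exists_bcSpecIso R C κ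
  have := heκ
  obtain ⟨dκ⟩ := nonempty_bc d _ eκ
  haveI := dκ.hp; haveI := dκ.hi; haveI := dκ.surj; haveI := dκ.flat; haveI := dκ.qc
  have hs : SGA3b.IsMultType κ (κ ⊗[R] C) := ExtField.isMultType_of_ext dκ.p dκ.i dκ.ker dκ.hH dκ.hK
  obtain ⟨U, _, _, _, D, _, _, φ, f, hff, hφ, hf, hker, hfm, hD⟩ :=
    MultType.LocalMult.exists_clopen_split R C hfp (fun q _ _ =>
      haveI : Module.Flat C (Localization.AtPrime q) := IsLocalization.flat _ q.primeCompl
      Module.Flat.trans R C (Localization.AtPrime q)) hs
  refine MultType.LocalMult.isMultType_of_eq_zero φ hφ hker hD ?_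
  obtain ⟨eU, heU⟩ := exists_bcSpecIso R C U
  have := heU
  obtain ⟨dU⟩ := nonempty_bc d _ eU
  haveI := dU.hp; haveI := dU.hi; haveI := dU.surj; haveI := dU.flat; haveI := dU.qc
  let Z := U ⊗[R] C
  let j : (Spec (CommRingCat.of D)).asOver (Spec (CommRingCat.of U)) ⟶
      (Spec (CommRingCat.of Z)).asOver (Spec (CommRingCat.of U)) :=
    (Spec.map (CommRingCat.ofHom (φ : Z →ₐ[U] D).toRingHom)).asOver (Spec (CommRingCat.of U))
  have : IsMonHom j := DiagRig.isMonHom_spec φ
  haveI : IsOpenImmersion j.left := by
    letI : Algebra Z D := (φ : Z →ₐ[U] D).toRingHom.toAlgebra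
    haveI : IsLocalization.Away (1 - f) D := IsLocalization.away_of_isIdempotentElem hf.one_sub
      (by rw [sub_sub_cancel]; exact hker) hφ
    exact AlgebraicGeometry.IsOpenImmersion.of_isLocalization (S := D) (1 - f)
  haveI : Algebra.FinitePresentation U D :=
    Algebra.FinitePresentation.of_surjective (f := (φ : Z →ₐ[U] D)) hφ (by
      show (RingHom.ker (φ : Z →ₐ[U] D)).FG
      rw [hker]; exact Submodule.fg_span_singleton f)
  have hlfpD : LocallyOfFinitePresentation ((Spec (CommRingCat.of D)).asOver (Spec (CommRingCat.of U))).hom := by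
    show LocallyOfFinitePresentation (Spec.map (CommRingCat.ofHom (algebraMap U D)))
    rw [HasRingHomProperty.Spec_iff (P := @LocallyOfFinitePresentation)]
    exact RingHom.finitePresentation_algebraMap.2 inferInstance
  have hE' : SGA3x.IsMultTypeFT ((Spec (CommRingCat.of D)).asOver (Spec (CommRingCat.of U))) := by
    obtain ⟨E⟩ := TorusQuot.exists_bcId ((Spec (CommRingCat.of D)).asOver (Spec (CommRingCat.of U)))
    obtain ⟨T, _, _, _, -, hT, hDT⟩ := hD
    haveI := hT
    refine EtaleCharts.isMultTypeFT_of_models fun x => ⟨CommRingCat.of U, 𝟙 _, D, inferInstance, inferInstance,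
      ((Grp.forget _).mapIso E).symm, ?_, inferInstance, ⟨x, rfl⟩, MultType.Diag.isMultType_of_diag T hDT⟩
    exact E.inv.hom.isMonHom_hom
  have hrange : Set.range j.left.base = PrimeSpectrum.zeroLocus ({f} : Set Z) := by
    show Set.range (PrimeSpectrum.comap (φ : Z →ₐ[U] D).toRingHom) = _
    rw [range_comap_of_surjective _ _ hφ, ← PrimeSpectrum.zeroLocus_span ({f} : Set Z)]
    exact congrArg _ (congrArg _ hker)
  have hsurj := ExtSurj.surjective_of_local dU.p dU.i dU.ker j dU.hH dU.hK hE' inferInstance (by
      intro x hx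
      rw [hrange]
      refine (PrimeSpectrum.mem_zeroLocus (R := Z) x {f}).2 (Set.singleton_subset_iff.2 ?_)
      have hx' : x.asIdeal.comap (algebraMap U Z) = IsLocalRing.maximalIdeal U :=
        congrArg PrimeSpectrum.asIdeal (hx : _ = _)
      exact Ideal.map_le_iff_le_comap.2 hx'.ge hfm)
    (fun X g h => comm_of_cocomm g _)
  refine hf.eq_zero_of_isNilpotent ?_
  rw [nilpotent_iff_mem_prime]
  intro P hP
  have hmem : (⟨P, hP⟩ : PrimeSpectrum Z) ∈ Set.range j.left.base := hsurj.surj _
  rw [hrange] at hmem
  exact Set.singleton_subset_iff.1 ((PrimeSpectrum.mem_zeroLocus (R := Z) ⟨P, hP⟩ {f}).1 hmem)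

end Groth.Agent.RedCentre.ExtLocal
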