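import Groth.Agent.RedCentre.Ext
import Groth.Agent.RedCentre.CentralExt
import Groth.Agent.DiagRig.MultBC
import Groth.Agent.DiagRig.EqLocus
import Groth.Agent.GrpScheme.Component
import Groth.Agent.GrpScheme.SubgroupObj
import Groth.Agent.FBase.BC
import Groth.Prelude.Def_RedSub

/-!
# Quotient maps by central subgroups of multiplicative type
-/

set_option autoImplicit false

universe u

open CategoryTheory CategoryTheory.Limits MonoidalCategory CartesianMonoidalCategory MonObj GrpObj AlgebraicGeometry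

noncomputable section

namespace Groth.Agent.RedCentre.QuotCentre

open DiagRig

open scoped commutatorElement

set_option backward.isDefEq.respectTransparency.types false

variable {S : Scheme.{u}}

/-- A group with connected fibres, locally of finite type, has geometrically connected fibres. -/
theorem geometricallyConnected_of_fibres (G : Over S) [GrpObj G] [LocallyOfFiniteType G.hom]
    (hconn : ∀ s : S, _root_.IsConnected (G.hom.base ⁻¹' {s})) : GeometricallyConnected G.hom := by
  rw [GeometricallyConnected.iff_geometricallyConnected_fiber]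
  intro s
  let G₀ : Over (Spec (CommRingCat.of (S.residueField s))) := Red.bc (S.fromSpecResidueField s) G
  letI : GrpObj G₀ := Red.grpObj_bc (S.fromSpecResidueField s) G
  haveI : LocallyOfFiniteType G₀.hom :=
    MorphismProperty.pullback_snd (P := @LocallyOfFiniteType) G.hom _ inferInstance
  haveI : ConnectedSpace G₀.left := by
    rw [connectedSpace_iff_univ]
    have h := hconn s
    rw [← G.hom.range_fiberι s, ← Set.image_univ] at h
    exact ⟨⟨(h.nonempty.of_image).choose, trivial⟩,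
      (G.hom.fiberι s).isEmbedding.isInducing.isPreconnected_image.1 h.isPreconnected⟩
  haveI : IrreducibleSpace G₀.left := by
    refine (irreducibleSpace_def _).2 ?_
    rw [Set.top_eq_univ, ← PreconnectedSpace.connectedComponent_eq_univ (GrpScheme.IdComponent.e₀ G₀),
      GrpScheme.IdComponent.connectedComponent_eq]
    exact isIrreducible_irreducibleComponent
  haveI := GrpScheme.Component.geometricallyIrreducible_of_irreducibleSpace G₀
  exact FBase.BC.geometricallyConnected_of_geometricallyIrreducible G₀.hom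

variable {G Z G' : Over S} [GrpObj G] [GrpObj Z] [GrpObj G'] (z : Z ⟶ G) [IsMonHom z] (q : G ⟶ G') [IsMonHom q]

/-- The first map of an fppf quotient square is the kernel. -/
theorem isKernel_of_isQuotient [Mono z] (hq : RedSub.IsQuotient z q) : AlgGrp.IsKernel z q := by
  obtain ⟨-, -, -, hsq⟩ := hq
  have he0 : (G ◁ z) ≫ μ[G] = fst G Z * (snd G Z ≫ z) := by
    rw [Hom.mul_def]; congr 1
  have hzq : z ≫ q = 1 := by
    have h := lift (1 : Z ⟶ G) (𝟙 Z) ≫= hsq.w
    rw [lift_fst_assoc, MonObj.one_comp, ← Category.assoc, he0, MonObj.comp_mul, lift_fst, lift_snd_assoc,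
      Category.id_comp, _root_.one_mul] at h
    exact h.symm
  have hw : z ≫ q = toUnit Z ≫ η[G'] := by rw [hzq, Hom.one_def]
  have hlift : ∀ (T : Over S) (x : T ⟶ G), x ≫ q = 1 → ∃ n : T ⟶ Z, n ≫ z = x := fun T x hx => by
    have hl := hsq.lift (1 : T ⟶ G) x (by rw [hx, MonObj.one_comp])
    refine ⟨hsq.lift (1 : T ⟶ G) x (by rw [hx, MonObj.one_comp]) ≫ snd G Z, ?_⟩
    have e := hsq.lift_snd (1 : T ⟶ G) x (by rw [hx, MonObj.one_comp])
    have e1 := hsq.lift_fst (1 : T ⟶ G) x (by rw [hx, MonObj.one_comp])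
    generalize hsq.lift (1 : T ⟶ G) x (by rw [hx, MonObj.one_comp]) = l at e e1
    rw [he0, MonObj.comp_mul, e1, _root_.one_mul, ← Category.assoc] at e
    exact e
  choose n hn using hlift
  exact ⟨⟨hw⟩, ⟨PullbackCone.IsLimit.mk hw (fun s => n _ s.fst (by rw [s.condition, Hom.one_def, toUnit_unique s.snd]))
    (fun s => hn _ _ _) (fun s => toUnit_unique _ _) (fun s m h₁ _ => by rw [← cancel_mono z, h₁, hn])⟩⟩

/-- The projection of an fppf quotient by a quasi-compact subgroup is quasi-compact. -/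
theorem quasiCompact_of_isQuotient [QuasiCompact Z.hom] (hq : RedSub.IsQuotient z q) : QuasiCompact q.left := by
  obtain ⟨hs, hf, hl, hsq⟩ := hq
  have sq := hsq.map (CategoryTheory.Over.forget S)
  haveI : QuasiCompact (fst G Z).left := MorphismProperty.pullback_fst (P := @QuasiCompact) G.hom Z.hom inferInstance
  refine (quasiCompact_iff_forall_isAffineOpen).2 fun V hV => ?_
  have hcov : ∀ v : (V : Set G'.left), ∃ W : G.left.Opens, IsAffineOpen W ∧ W ≤ q.left ⁻¹ᵁ V ∧ v.1 ∈ q.left.base '' W := by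
    rintro ⟨v, hv⟩
    obtain ⟨y, rfl⟩ := hs.surj v
    obtain ⟨W, hW, hyW, hWV⟩ := exists_isAffineOpen_mem_and_subset (X := G.left) (x := y) (U := q.left ⁻¹ᵁ V) hv
    exact ⟨W, hW, hWV, ⟨y, hyW, rfl⟩⟩
  choose W hW hWV hvW using hcov
  obtain ⟨F, hF⟩ := hV.isCompact.elim_finite_subcover (fun v => q.left.base '' (W v : Set G.left))
    (fun v => q.left.isOpenMap _ (W v).2) fun v hv => Set.mem_iUnion.2 ⟨⟨v, hv⟩, hvW ⟨v, hv⟩⟩
  let act : (G ⊗ Z).left ⟶ G.left := ((G ◁ z) ≫ μ[G]).left
  have hK : IsCompact (⋃ v ∈ F, act.base '' ((fst G Z).left.base ⁻¹' (W v : Set G.left))) :=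
    F.isCompact_biUnion fun v _ => ((fst G Z).left.isCompact_preimage (hW v).isCompact).image act.continuous
  convert hK using 1
  ext x
  simp only [Set.mem_iUnion, Set.mem_image, Set.mem_preimage]
  constructor
  · intro hx
    obtain ⟨v, hv, y, hy, hyx⟩ : ∃ v ∈ F, ∃ y ∈ (W v : Set G.left), q.left y = q.left x := by
      simpa using hF hx
    obtain ⟨w, hw1, hw2⟩ := Scheme.exists_preimage_of_isPullback sq y x hyx
    exact ⟨v, hv, w, by rw [show (fst G Z).left w = y from hw1]; exact hy, hw2⟩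
  · rintro ⟨v, hv, w, hw, rfl⟩
    show q.left (act w) ∈ V
    rw [← Scheme.Hom.comp_apply, ← show (fst G Z).left ≫ q.left = act ≫ q.left from sq.w, Scheme.Hom.comp_apply]
    exact hWV v hw

/-- Central homomorphisms into the quotient by the reductive centre. -/
theorem eq_one_of_central [Smooth G.hom] [IsAffineHom G.hom] (hconn : ∀ s : S, _root_.IsConnected (G.hom.base ⁻¹' {s}))
    [Mono z] (hZmt : SGA3x.IsMultTypeFT Z)
    (hZc : ∀ (X : Over S) (x : X ⟶ Z) (g : X ⟶ G), (x ≫ z) * g = g * (x ≫ z))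
    (hZu : ∀ (S' : Scheme.{u}) (f : S' ⟶ S) (H : Over S') [GrpObj H] (v : H ⟶ Red.bc f G) [IsMonHom v],
        SGA3x.IsMultTypeFT H →
        (∀ (X : Over S') (x : X ⟶ H) (g : X ⟶ Red.bc f G), (x ≫ v) * g = g * (x ≫ v)) →
        ∃ w : H ⟶ Red.bc f Z, w ≫ (Over.pullback f).map z = v)
    (hq : RedSub.IsQuotient z q)
    (S' : Scheme.{u}) (f : S' ⟶ S) (H : Over S') [GrpObj H] (v : H ⟶ Red.bc f G') [IsMonHom v]
    (hH : SGA3x.IsMultTypeFT H)
    (hv : ∀ (X : Over S') (x : X ⟶ H) (g : X ⟶ Red.bc f G'), (x ≫ v) * g = g * (x ≫ v)) :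
    v = 1 := by
  haveI := multType_isAffineHom Z hZmt
  have hker := ExtLocal.isKernel_bc f (isKernel_of_isQuotient z q hq)
  have hqc := quasiCompact_of_isQuotient z q hq
  obtain ⟨hqs, hqf, -, -⟩ := hq
  let Gf := Red.bc f G
  let q' : Gf ⟶ Red.bc f G' := (Over.pullback f).map q
  let z' : Red.bc f Z ⟶ Gf := (Over.pullback f).map z
  have : IsMonHom (M := Gf) (N := Red.bc f G') q' := isMonHom_bcMap f q
  have : IsMonHom (M := Red.bc f Z) (N := Gf) z' := isMonHom_bcMap f z
  have : Mono z' := inferInstance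
  haveI : Flat q'.left := MorphismProperty.of_isPullback (isPullback_bcMap f q) hqf
  haveI : Surjective q'.left := MorphismProperty.of_isPullback (isPullback_bcMap f q) hqs
  haveI : QuasiCompact q'.left := MorphismProperty.of_isPullback (isPullback_bcMap f q) hqc
  haveI : IsAffineHom Gf.hom := MorphismProperty.pullback_snd (P := @IsAffineHom) G.hom f inferInstance
  haveI : Smooth Gf.hom := MorphismProperty.pullback_snd (P := @Smooth) G.hom f inferInstance
  haveI := geometricallyConnected_of_fibres G hconn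
  haveI : GeometricallyConnected Gf.hom := inferInstanceAs (GeometricallyConnected (pullback.snd G.hom f))
  have hzc : ∀ {T : Over S'} (n : T ⟶ Red.bc f Z) (g : T ⟶ Gf), Commute g (n ≫ z') := fun {T} n g => by
    apply bcTr_injective f
    rw [bcTr_mul, bcTr_mul, show bcTr f (n ≫ z') = bcTr f n ≫ z from Adjunction.homEquiv_naturality_right_symm _ _ _]
    exact (hZc _ _ _).symm
  have hkl : ∀ {T : Over S'} (x : T ⟶ Gf), x ≫ q' = 1 → ∃ n : T ⟶ Red.bc f Z, n ≫ z' = x := fun x hx =>
    ⟨hker.lift x (toUnit _) (by rw [hx, Hom.one_def]), hker.lift_fst _ _ _⟩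
  -- the extension
  let P : Over S' := pullback q' v
  let pj : P ⟶ Gf := pullback.fst q' v
  let pp : P ⟶ H := pullback.snd q' v
  let inc : P ⟶ Gf ⊗ H := lift pj pp
  have : Mono inc := ⟨fun a b h => pullback.hom_ext
    (by simpa [inc, comp_lift, pj] using congrArg (· ≫ fst Gf H) h)
    (by simpa [inc, comp_lift, pp] using congrArg (· ≫ snd Gf H) h)⟩
  have hmem : ∀ {T : Over S'} (a : T ⟶ Gf) (b : T ⟶ H), a ≫ q' = b ≫ v → ∃ c : T ⟶ P, c ≫ inc = lift a b :=
    fun a b h => ⟨pullback.lift a b h, by simp only [inc, comp_lift, pj, pp, pullback.lift_fst, pullback.lift_snd]⟩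
  obtain ⟨m, hm⟩ := hmem ((fst P P ≫ pj) * (snd P P ≫ pj)) ((fst P P ≫ pp) * (snd P P ≫ pp)) (by
    simp only [MonObj.mul_comp, Category.assoc, pj, pp, pullback.condition])
  obtain ⟨o, ho⟩ := hmem (1 : 𝟙_ (Over S') ⟶ Gf) 1 (by rw [MonObj.one_comp, MonObj.one_comp])
  obtain ⟨iv, hiv⟩ := hmem pj⁻¹ pp⁻¹ (by rw [GrpObj.inv_comp, GrpObj.inv_comp]; simp only [pj, pp, pullback.condition])
  have hincf : inc ≫ fst Gf H = pj := lift_fst _ _
  have hincs : inc ≫ snd Gf H = pp := lift_snd _ _
  obtain ⟨instP, hincHom⟩ := GrpScheme.SubgroupObj.exists_grpObj inc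
    ⟨m, by
      rw [hm, show (inc ⊗ₘ inc) ≫ μ[Gf ⊗ H] = (fst P P ≫ inc) * (snd P P ≫ inc) by
        rw [Hom.mul_def]; congr 1]
      apply CartesianMonoidalCategory.hom_ext <;>
        simp only [lift_fst, lift_snd, MonObj.mul_comp, Category.assoc, hincf, hincs]⟩
    ⟨o, by
      rw [ho, show η[Gf ⊗ H] = (1 : 𝟙_ (Over S') ⟶ Gf ⊗ H) by
        rw [Hom.one_def, toUnit_unique (toUnit _) (𝟙 (𝟙_ (Over S'))), Category.id_comp]]
      apply CartesianMonoidalCategory.hom_ext <;> simp only [lift_fst, lift_snd, MonObj.one_comp]⟩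
    ⟨iv, by
      rw [hiv, show inc ≫ ι[Gf ⊗ H] = inc⁻¹ from (Hom.inv_def inc).symm]
      apply CartesianMonoidalCategory.hom_ext <;> simp only [lift_fst, lift_snd, GrpObj.inv_comp, hincf, hincs]⟩
  have : IsMonHom pj := hincf ▸ (inferInstance : IsMonHom (inc ≫ fst Gf H))
  have : IsMonHom pp := hincs ▸ (inferInstance : IsMonHom (inc ≫ snd Gf H))
  have sqP := (IsPullback.of_hasPullback q' v).map (CategoryTheory.Over.forget S')
  haveI : Flat pp.left := MorphismProperty.of_isPullback sqP ‹Flat q'.left›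
  haveI : Surjective pp.left := MorphismProperty.of_isPullback sqP ‹Surjective q'.left›
  haveI : QuasiCompact pp.left := MorphismProperty.of_isPullback sqP ‹QuasiCompact q'.left›
  have hq_pp : ∀ {T : Over S'} (e : T ⟶ P), (e ≫ pj) ≫ q' = (e ≫ pp) ≫ v := fun e => by
    rw [Category.assoc, Category.assoc, show pj ≫ q' = pp ≫ v from pullback.condition]
  have hcentral := CentralExt.central_of_ext hH pp pj (fun T e g he => by
      obtain ⟨n, hn⟩ := hkl (e ≫ pj) (by rw [hq_pp, he, MonObj.one_comp])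
      rw [← hn]; exact hzc n g) (fun T e g g' => by
      obtain ⟨n, hn⟩ := hkl ⁅g, e ≫ pj⁆ (by
        show (⁅g, e ≫ pj⁆ : T ⟶ Gf) ≫ q' = 1
        rw [commutatorElement_def, MonObj.mul_comp, MonObj.mul_comp, MonObj.mul_comp, GrpObj.inv_comp, GrpObj.inv_comp,
          hq_pp, hv T (e ≫ pp) (g ≫ q') |>.symm]
        group)
      rw [← hn]; exact (hzc n g').symm)
  have hHcomm := splitFpqc_of_multTypeFT H hH
  have hPcomm : ∀ (T : Over S') (a b : T ⟶ P), a * b = b * a := fun T a b => by
    rw [← cancel_mono inc, MonObj.mul_comp, MonObj.mul_comp]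
    apply CartesianMonoidalCategory.hom_ext <;> simp only [MonObj.mul_comp, Category.assoc, hincf, hincs]
    · exact hcentral T a (b ≫ pj)
    · exact mul_comm_of_splitFpqc hHcomm _ _
  obtain ⟨k, hk⟩ := hmem z' 1 (by rw [MonObj.one_comp]; exact hker.w.trans (Hom.one_def).symm)
  have hkj : k ≫ pj = z' := by rw [← hincf, ← Category.assoc, hk, lift_fst]
  have hkp : k ≫ pp = 1 := by rw [← hincs, ← Category.assoc, hk, lift_snd]
  have : Mono k := ⟨fun a b h => by rw [← cancel_mono z', ← hkj, ← Category.assoc, h, Category.assoc]⟩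
  have : IsMonHom k := isMonHom_of_pts k fun T a b => by
    rw [← cancel_mono inc, MonObj.mul_comp (a ≫ k) (b ≫ k) inc, Category.assoc, Category.assoc, Category.assoc, hk,
      comp_lift, comp_lift, comp_lift]
    apply CartesianMonoidalCategory.hom_ext <;> simp only [lift_fst, lift_snd, MonObj.mul_comp,
      MonObj.comp_one, _root_.mul_one]
  have hkker : AlgGrp.IsKernel k pp := by
    have hw : k ≫ pp = toUnit _ ≫ η[H] := by rw [hkp, Hom.one_def]
    have hl : ∀ (T : Over S') (x : T ⟶ P), x ≫ pp = 1 → ∃ n, n ≫ k = x := fun T x hx => by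
      obtain ⟨n, hn⟩ := hkl (x ≫ pj) (by rw [hq_pp, hx, MonObj.one_comp])
      refine ⟨n, ?_⟩
      rw [← cancel_mono inc]
      apply CartesianMonoidalCategory.hom_ext <;> simp only [Category.assoc, hincf, hincs, hkj, hkp, hn, hx,
        MonObj.comp_one]
    choose n hn using hl
    exact ⟨⟨hw⟩, ⟨PullbackCone.IsLimit.mk hw (fun s => n _ s.fst (by rw [s.condition, Hom.one_def, toUnit_unique s.snd]))
      (fun s => hn _ _ _) (fun s => toUnit_unique _ _) (fun s m h₁ _ => by rw [← cancel_mono k, h₁, hn])⟩⟩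
  have hPmt : SGA3x.IsMultTypeFT P := Ext.isMultTypeFT_ext_comm pp k hkker (isMultTypeFT_bc f hZmt) hH hPcomm
  obtain ⟨w, hw⟩ := hZu S' f P pj hPmt hcentral
  refine GrpdLib.GrpOver.cancel_left pp ?_
  rw [MonObj.comp_one, show pp ≫ v = pj ≫ q' from pullback.condition.symm, ← hw, Category.assoc,
    show z' ≫ q' = 1 from hker.w.trans (Hom.one_def).symm, MonObj.comp_one]

end Groth.Agent.RedCentre.QuotCentre
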